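import Mathlib.AlgebraicGeometry.Morphisms.SchemeTheoreticallyDominant
import Mathlib.AlgebraicGeometry.Morphisms.Separated
import Mathlib.AlgebraicGeometry.Geometrically.Integral
import Mathlib.AlgebraicGeometry.Morphisms.Proper

/-!
# Morphisms with trivial kernel are epimorphisms for separated targets; products of geometrically integral schemes
-/

open CategoryTheory Limits AlgebraicGeometry MonoidalCategory

namespace Groth.Agent.AbRigid

universe u

/-- A morphism with trivial kernel is right cancellable against morphisms into separated schemes. -/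
theorem eq_of_comp_eq_of_ker_eq_bot {X Y B S : Scheme.{u}} (r : X ⟶ Y) (hr : r.ker = ⊥) (q : B ⟶ S)
    [IsSeparated q] (a b : Y ⟶ B) (hS : a ≫ q = b ≫ q) (h : r ≫ a = r ≫ b) : a = b := by
  set ab : Y ⟶ pullback q q := pullback.lift a b hS
  set e := pullback.fst ab (pullback.diagonal q)
  have hfac : ∃ l, l ≫ e = r := by
    refine ⟨pullback.lift r (r ≫ a) ?_, pullback.lift_fst _ _ _⟩
    apply pullback.hom_ext
    · rw [Category.assoc, Category.assoc, pullback.diagonal_fst, Category.comp_id, pullback.lift_fst]
    · rw [Category.assoc, Category.assoc, pullback.diagonal_snd, Category.comp_id, pullback.lift_snd, h]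
  obtain ⟨l, hl⟩ := hfac
  have hker : e.ker = ⊥ := by
    rw [eq_bot_iff, ← hr, ← hl]
    exact Scheme.Hom.le_ker_comp _ _
  haveI : IsIso e := IsClosedImmersion.isIso_iff_ker_eq_bot.2 hker
  have hc := pullback.condition (f := ab) (g := pullback.diagonal q)
  have h1 := congrArg (· ≫ pullback.fst q q) hc
  have h2 := congrArg (· ≫ pullback.snd q q) hc
  simp only [Category.assoc, ab, pullback.lift_fst, pullback.lift_snd, pullback.diagonal_fst, pullback.diagonal_snd, Category.comp_id] at h1 h2
  rw [← cancel_epi e]
  exact h1.trans h2.symm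

theorem ker_eq_bot_of_isIso_app {X Y : Scheme.{u}} (r : X ⟶ Y) [QuasiCompact r]
    (hr : ∀ U : Y.Opens, IsIso (r.app U)) : r.ker = ⊥ := by
  ext U : 2
  haveI := hr U.1
  rw [Scheme.Hom.ker_apply, Scheme.IdealSheafData.ideal_bot, Pi.bot_apply,
    ← RingHom.injective_iff_ker_eq_bot]
  exact (ConcreteCategory.bijective_of_isIso (r.app U.1)).1

variable {K : Type u} [Field K]

/-- The product of two geometrically integral schemes of finite type over a field is geometrically integral. -/
theorem geometricallyIntegral_tensorObj (X Y : Over (Spec (CommRingCat.of K)))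
    [GeometricallyIntegral X.hom] [GeometricallyIntegral Y.hom] [LocallyOfFiniteType X.hom] :
    GeometricallyIntegral (X ⊗ Y).hom := by
  show GeometricallyIntegral (pullback.fst X.hom Y.hom ≫ X.hom)
  refine ⟨fun L _ x W p₁ p₂ hW ↦ ?_⟩
  haveI : GeometricallyIntegral (pullback.fst X.hom Y.hom) := inferInstance
  haveI : IsLocallyNoetherian (pullback X.hom x) :=
    LocallyOfFiniteType.isLocallyNoetherian (pullback.snd X.hom x)
  haveI : IsIntegral (pullback X.hom x) :=
    GeometricallyIntegral.isIntegral_of_subsingleton (pullback.snd X.hom x)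
  haveI : IsIntegral (pullback (pullback.fst X.hom Y.hom) (pullback.fst X.hom x)) := inferInstance
  let e := (pullbackRightPullbackFstIso X.hom x (pullback.fst X.hom Y.hom)) ≪≫ hW.isoPullback.symm
  haveI : Nonempty W := ⟨e.hom (Nonempty.some inferInstance)⟩
  exact isIntegral_of_isOpenImmersion e.inv

end Groth.Agent.AbRigid
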