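import Mathlib.AlgebraicGeometry.Group.Abelian
import Mathlib.AlgebraicGeometry.Morphisms.FlatDescent

/-!
# The rigidity lemma over a field
-/

open CategoryTheory Limits AlgebraicGeometry MonoidalCategory CartesianMonoidalCategory MonObj

namespace Groth.Agent.AbRigid

universe u

/-- Two sections of a proper integral scheme over an algebraically closed field become equal after
composing with a morphism to an affine scheme. -/
theorem point_comp_eq_of_isAffine {K : Type u} [Field K] [IsAlgClosed K] {X U : Scheme.{u}}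
    (π : X ⟶ Spec (.of K)) [IsProper π] [IsIntegral X] [IsAffine U] (g : X ⟶ U)
    (a b : Spec (.of K) ⟶ X) (ha : a ≫ π = 𝟙 _) (hb : b ≫ π = 𝟙 _) : a ≫ g = b ≫ g := by
  have hfin := finite_appTop_of_universallyClosed K π
  have hsurj : Function.Surjective π.appTop.hom := by
    let F := (Scheme.ΓSpecIso (.of K)).inv ≫ π.appTop
    have hF : F.hom.IsIntegral := by
      apply RingHom.isIntegral_respectsIso.2 (e := (Scheme.ΓSpecIso _).symm.commRingCatIsoToRingEquiv)
      exact isIntegral_appTop_of_universallyClosed π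
    letI := (isField_of_universallyClosed K π).toField
    have hb := IsAlgClosed.ringHom_bijective_of_isIntegral F.hom hF
    intro y
    obtain ⟨x, hx⟩ := hb.2 y
    exact ⟨_, hx⟩
  have key : a.appTop = b.appTop := by
    have hea : π.appTop ≫ a.appTop = 𝟙 _ := by rw [← Scheme.Hom.comp_appTop, ha]; simp
    have heb : π.appTop ≫ b.appTop = 𝟙 _ := by rw [← Scheme.Hom.comp_appTop, hb]; simp
    ext y
    obtain ⟨x, rfl⟩ := hsurj y
    exact (ConcreteCategory.congr_hom hea x).trans (ConcreteCategory.congr_hom heb x).symm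
  rw [← cancel_mono U.toSpecΓ, Category.assoc, Category.assoc, Scheme.toSpecΓ_naturality,
    ← Category.assoc a, ← Category.assoc b, Scheme.toSpecΓ_naturality, Scheme.toSpecΓ_naturality, key]

variable {K : Type u} [Field K]

/-- The slice `X → X × Y` at a rational point of `Y`. -/
noncomputable abbrev slice {X Y : Over (Spec (CommRingCat.of K))}
    (b : 𝟙_ (Over (Spec (CommRingCat.of K))) ⟶ Y) : X ⟶ X ⊗ Y :=
  lift (𝟙 X) (toUnit X ≫ b)

theorem point_comp_slice {X Y : Over (Spec (CommRingCat.of K))}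
    (a : 𝟙_ (Over (Spec (CommRingCat.of K))) ⟶ X) (b : 𝟙_ (Over (Spec (CommRingCat.of K))) ⟶ Y) :
    a ≫ slice b = lift a b := by
  rw [comp_lift, Category.comp_id, ← Category.assoc, toUnit_unique (a ≫ toUnit X) (𝟙 _), Category.id_comp]

theorem point_eta {X Y : Over (Spec (CommRingCat.of K))}
    (a : 𝟙_ (Over (Spec (CommRingCat.of K))) ⟶ X ⊗ Y) : lift (a ≫ fst X Y) (a ≫ snd X Y) = a := by
  rw [← comp_lift, lift_fst_snd, Category.comp_id]

set_option backward.isDefEq.respectTransparency false in
/-- Rigidity over an algebraically closed field. -/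
theorem rigidity_of_isAlgClosed [IsAlgClosed K] (X Y Z : Over (Spec (CommRingCat.of K)))
    [IsProper X.hom] [IsIntegral X.left] [LocallyOfFiniteType Y.hom] [IsIntegral (X ⊗ Y).left]
    [IsSeparated Z.hom] (f : X ⊗ Y ⟶ Z)
    (x₀ : 𝟙_ (Over (Spec (CommRingCat.of K))) ⟶ X) (y₀ : 𝟙_ (Over (Spec (CommRingCat.of K))) ⟶ Y)
    (z₀ : 𝟙_ (Over (Spec (CommRingCat.of K))) ⟶ Z) (h : slice y₀ ≫ f = toUnit X ≫ z₀) :
    f = snd X Y ≫ lift (toUnit Y ≫ x₀) (𝟙 Y) ≫ f := by
  let pt : Spec (CommRingCat.of K) := IsLocalRing.closedPoint K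
  haveI : LocallyOfFiniteType (X ⊗ Y).hom := by dsimp; infer_instance
  haveI : JacobsonSpace (X ⊗ Y).left := LocallyOfFiniteType.jacobsonSpace (Y := Spec _) (X ⊗ Y).hom
  haveI : JacobsonSpace Y.left := LocallyOfFiniteType.jacobsonSpace (Y := Spec _) Y.hom
  haveI : IsProper (snd X Y).left := by dsimp; infer_instance
  -- an affine neighbourhood of the image point
  obtain ⟨U, hU, hzU, -⟩ := exists_isAffineOpen_mem_and_subset (X := Z.left)
    (x := z₀.left pt) (U := ⊤) trivial
  set C : Set (X ⊗ Y).left := (f.left ⁻¹' (U : Set Z.left))ᶜ with hC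
  have hCc : IsClosed C := (U.isOpen.preimage f.left.continuous).isClosed_compl
  set D : Set Y.left := (snd X Y).left '' C with hD
  have hDc : IsClosed D := (snd X Y).left.isClosedMap _ hCc
  -- a closed point of the product is a pair of rational points
  have hpt : ∀ p : (X ⊗ Y).left, IsClosed ({p} : Set (X ⊗ Y).left) →
      ∃ a : 𝟙_ (Over (Spec (CommRingCat.of K))) ⟶ X ⊗ Y, a.left pt = p := fun p hp =>
    ⟨Over.homMk (pointOfClosedPoint (X ⊗ Y).hom p hp) (by simp), by simp [pt]⟩
  have hy₀ : y₀.left pt ∉ D := by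
    rintro ⟨q, hq, hqy⟩
    haveI : IsClosedImmersion y₀.left :=
      isClosedImmersion_of_comp_eq_id (Y := Spec (.of K)) Y.hom y₀.left (by simp)
    have hcl : IsClosed (C ∩ (snd X Y).left ⁻¹' {y₀.left pt}) := by
      refine hCc.inter (IsClosed.preimage (snd X Y).left.continuous ?_)
      rw [← Set.image_singleton]
      exact y₀.left.isClosedMap {pt} (isClosed_discrete ({pt} : Set (Spec (CommRingCat.of K))))
    obtain ⟨p, ⟨hpC, hpy⟩, hp⟩ := nonempty_inter_closedPoints
      (show (C ∩ (snd X Y).left ⁻¹' {y₀.left pt}).Nonempty from ⟨q, hq, hqy⟩) hcl.isLocallyClosed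
    obtain ⟨a, rfl⟩ := hpt p hp
    have hb : a ≫ snd X Y = y₀ := by
      ext1
      refine ext_of_apply_closedPoint_eq (K := K) Y.hom (Over.w _) (Over.w _) ?_
      exact hpy
    refine hpC ?_
    show (a ≫ f).left pt ∈ U
    rw [← point_eta a, hb, ← point_comp_slice, Category.assoc, h, ← Category.assoc,
      toUnit_unique ((a ≫ fst X Y) ≫ toUnit X) (𝟙 _), Category.id_comp]
    exact hzU
  -- on closed points over the complement of D the identity holds
  ext1
  refine ext_of_fromSpecResidueField_eq _ _ Z.hom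
    ((snd X Y).left ⁻¹' Dᶜ ∩ closedPoints (X ⊗ Y).left) ?_ ?_ ((Over.w _).trans (Over.w _).symm)
  · have hopen : IsOpen ((snd X Y).left ⁻¹' Dᶜ) := hDc.isOpen_compl.preimage (snd X Y).left.continuous
    rw [dense_iff_closure_eq, JacobsonSpace.closure_inter_closedPoints_eq_closure hopen.isLocallyClosed,
      ← dense_iff_closure_eq]
    refine hopen.dense ⟨(lift x₀ y₀).left pt, ?_⟩
    show ((lift x₀ y₀) ≫ snd X Y).left pt ∈ Dᶜ
    rw [lift_snd]
    exact hy₀
  · rintro p ⟨hpD, hp⟩
    rw [← cancel_epi (Spec.map (residueFieldIsoBase (X ⊗ Y).hom p hp).hom)]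
    obtain ⟨a, ha⟩ : ∃ a : 𝟙_ (Over (Spec (CommRingCat.of K))) ⟶ X ⊗ Y,
        a.left = pointOfClosedPoint (X ⊗ Y).hom p hp :=
      ⟨Over.homMk (pointOfClosedPoint (X ⊗ Y).hom p hp) (by simp), rfl⟩
    have hap : a.left pt = p := by rw [ha]; simp
    simp only [← Category.assoc, ← show a.left = Spec.map (residueFieldIsoBase (X ⊗ Y).hom p hp).hom ≫
      (X ⊗ Y).left.fromSpecResidueField p from ha]
    show (a ≫ f).left = (a ≫ snd X Y ≫ lift (toUnit Y ≫ x₀) (𝟙 Y) ≫ f).left
    set b := a ≫ snd X Y with hb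
    have hbD : b.left pt ∉ D := by
      rw [hb, Over.comp_left, Scheme.Hom.comp_apply, hap]; exact hpD
    -- the slice at b lands in the affine open
    have hland : Set.range (slice (X := X) b ≫ f).left ⊆ Set.range U.ι := by
      rintro _ ⟨x, rfl⟩
      rw [Scheme.Opens.range_ι]
      by_contra hx
      refine hbD ⟨(slice (X := X) b).left x, ?_, ?_⟩
      · simpa [hC] using hx
      · have e : slice (X := X) b ≫ snd X Y = toUnit X ≫ b := lift_snd _ _
        have := congrArg (fun φ : X ⟶ Y => φ.left x) e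
        show (snd X Y).left ((slice (X := X) b).left x) = b.left pt
        refine (show _ = b.left ((toUnit X).left x) from this).trans ?_
        exact congrArg b.left (Subsingleton.elim (α := Spec (CommRingCat.of K)) _ _)
    have hUaff : IsAffine U.toScheme := hU
    have hfac := IsOpenImmersion.lift_fac U.ι (slice (X := X) b ≫ f).left hland
    have h1 : ∀ c : 𝟙_ (Over (Spec (CommRingCat.of K))) ⟶ X,
        (c ≫ slice b ≫ f).left = (x₀ ≫ slice b ≫ f).left := by
      intro c
      rw [Over.comp_left, Over.comp_left (f := x₀), ← hfac, ← Category.assoc, ← Category.assoc,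
        point_comp_eq_of_isAffine X.hom _ c.left x₀.left (Over.w c) (Over.w x₀)]
    have e1 : a ≫ f = (a ≫ fst X Y) ≫ slice b ≫ f := by
      rw [← Category.assoc (a ≫ fst X Y), point_comp_slice, hb, point_eta]
    have e2 : a ≫ snd X Y ≫ lift (toUnit Y ≫ x₀) (𝟙 Y) ≫ f = x₀ ≫ slice b ≫ f := by
      rw [← Category.assoc a, ← hb, ← Category.assoc x₀, point_comp_slice, ← Category.assoc b,
        comp_lift, Category.comp_id, ← Category.assoc, toUnit_unique (b ≫ toUnit Y) (𝟙 _), Category.id_comp]
    rw [e1, e2]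
    exact h1 _

set_option backward.isDefEq.respectTransparency false in
set_option backward.defeqAttrib.useBackward true in
/-- Rigidity over a field: if a proper geometrically integral `X` times a rational point of a
geometrically integral `Y` is contracted, then the morphism factors through the second projection. -/
theorem rigidity (X Y Z : Over (Spec (CommRingCat.of K)))
    [IsProper X.hom] [GeometricallyIntegral X.hom]
    [LocallyOfFiniteType Y.hom] [GeometricallyIntegral Y.hom]
    [IsSeparated Z.hom] (f : X ⊗ Y ⟶ Z)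
    (x₀ : 𝟙_ (Over (Spec (CommRingCat.of K))) ⟶ X) (y₀ : 𝟙_ (Over (Spec (CommRingCat.of K))) ⟶ Y)
    (z₀ : 𝟙_ (Over (Spec (CommRingCat.of K))) ⟶ Z) (h : slice y₀ ≫ f = toUnit X ≫ z₀) :
    f = snd X Y ≫ lift (toUnit Y ≫ x₀) (𝟙 Y) ≫ f := by
  let φ := Spec.map (CommRingCat.ofHom <| algebraMap K (AlgebraicClosure K))
  let F := Over.pullback φ
  haveI : IsProper (F.obj X).hom := by dsimp [F]; infer_instance
  haveI : LocallyOfFiniteType (F.obj Y).hom := by dsimp [F]; infer_instance
  haveI : IsSeparated (F.obj Z).hom := by dsimp [F]; infer_instance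
  haveI : IsIntegral (F.obj X).left := by dsimp [F]; infer_instance
  haveI : IsIntegral (F.obj X ⊗ F.obj Y).left := by dsimp [F]; infer_instance
  have hsep : IsSeparated (F.obj Z).hom := inferInstance
  have hει : ∀ {A : Over (Spec (CommRingCat.of (AlgebraicClosure K)))}
      (u : A ⟶ F.obj (𝟙_ (Over (Spec (CommRingCat.of K))))), u = toUnit A ≫ Functor.LaxMonoidal.ε F := by
    intro A u
    rw [← cancel_mono (Functor.Monoidal.εIso F).inv]
    exact toUnit_unique _ _
  have key := rigidity_of_isAlgClosed (F.obj X) (F.obj Y) (F.obj Z) (Functor.LaxMonoidal.μ F X Y ≫ F.map f)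
    (Functor.LaxMonoidal.ε F ≫ F.map x₀) (Functor.LaxMonoidal.ε F ≫ F.map y₀)
    (Functor.LaxMonoidal.ε F ≫ F.map z₀) (by
      have e : slice (Functor.LaxMonoidal.ε F ≫ F.map y₀) ≫ Functor.LaxMonoidal.μ F X Y = F.map (slice y₀) := by
        rw [← cancel_mono (Functor.Monoidal.μIso F X Y).inv, Functor.Monoidal.μIso_inv, Category.assoc,
          Functor.Monoidal.μ_δ, Category.comp_id]
        apply CartesianMonoidalCategory.hom_ext
        · rw [Category.assoc, Functor.OplaxMonoidal.δ_fst, ← F.map_comp, slice, slice, lift_fst, lift_fst, F.map_id]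
        · rw [Category.assoc, Functor.OplaxMonoidal.δ_snd, ← F.map_comp, slice, slice, lift_snd, lift_snd,
            F.map_comp, ← Category.assoc, ← hει (F.map (toUnit X))]
      rw [← Category.assoc, e, ← F.map_comp, h, F.map_comp, ← Category.assoc, ← hει (F.map (toUnit X))])
  apply F.map_injective
  rw [← cancel_epi (Functor.Monoidal.μIso F X Y).hom, Functor.Monoidal.μIso_hom, F.map_comp, F.map_comp]
  refine key.trans ?_
  simp only [← Category.assoc]
  congr 1
  rw [← cancel_mono (Functor.Monoidal.μIso F X Y).inv, Functor.Monoidal.μIso_inv]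
  simp only [Category.assoc, Functor.Monoidal.μ_δ, Category.comp_id]
  apply CartesianMonoidalCategory.hom_ext
  · simp only [Category.assoc, Functor.OplaxMonoidal.δ_fst, ← F.map_comp, lift_fst]
    rw [F.map_comp, F.map_comp, Functor.Monoidal.μ_snd_assoc, hει (F.map (toUnit Y))]
    simp only [Category.assoc]
  · simp only [Category.assoc, Functor.OplaxMonoidal.δ_snd, ← F.map_comp, lift_snd, Category.comp_id,
      Functor.Monoidal.μ_snd]

end Groth.Agent.AbRigid
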