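import Groth.Agent.Lib.AbRigid.Epi
import Mathlib.AlgebraicGeometry.Group.Smooth
import Mathlib.AlgebraicGeometry.Geometrically.Connected
import Mathlib.AlgebraicGeometry.AlgClosed.Basic
import Mathlib.FieldTheory.IsAlgClosed.AlgebraicClosure
import Mathlib.Topology.NoetherianSpace
import Mathlib.AlgebraicGeometry.Morphisms.Integral
import Mathlib.AlgebraicGeometry.Morphisms.UniversallyOpen
import Mathlib.CategoryTheory.Monoidal.Cartesian.Grp

/-!
# Connected group schemes locally of finite type over a field are geometrically irreducible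
-/

open CategoryTheory Limits AlgebraicGeometry MonoidalCategory CartesianMonoidalCategory MonObj

namespace Groth.Agent.AbRigid

universe u

/-- A nonempty Noetherian space has a nonempty irreducible open subset. -/
theorem exists_isOpen_isIrreducible {α : Type*} [TopologicalSpace α] [TopologicalSpace.NoetherianSpace α]
    [Nonempty α] : ∃ V : Set α, IsOpen V ∧ IsIrreducible V := by
  classical
  have hfin := TopologicalSpace.NoetherianSpace.finite_irreducibleComponents (α := α)
  obtain ⟨Z, hZ⟩ : ∃ Z, Z ∈ irreducibleComponents α :=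
    ⟨_, irreducibleComponent_mem_irreducibleComponents (Classical.arbitrary α)⟩
  set W := ⋃₀ (irreducibleComponents α \ {Z}) with hW
  have hWc : IsClosed W := by
    rw [hW, Set.sUnion_eq_biUnion]
    exact (hfin.sdiff).isClosed_biUnion fun z hz => isClosed_of_mem_irreducibleComponents z hz.1
  have hne : ¬ Z ⊆ W := by
    intro h
    obtain ⟨z, hz, hsub⟩ := isIrreducible_iff_sUnion_isClosed.1 hZ.1 (hfin.sdiff (t := {Z})).toFinset
      (fun z hz => isClosed_of_mem_irreducibleComponents z ((Set.Finite.mem_toFinset _).1 hz).1)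
      (by rwa [Set.Finite.coe_toFinset, ← hW])
    have hz' := (Set.Finite.mem_toFinset _).1 hz
    exact hz'.2 (le_antisymm (hZ.2 hz'.1.1 hsub) hsub)
  have hsub : Wᶜ ⊆ Z := fun x hx => by
    by_contra hxZ
    exact hx ⟨irreducibleComponent x, ⟨irreducibleComponent_mem_irreducibleComponents x,
      fun h => hxZ ((Set.mem_singleton_iff.1 h) ▸ mem_irreducibleComponent)⟩, mem_irreducibleComponent⟩
  refine ⟨Wᶜ, hWc.isOpen_compl, ?_, ?_⟩
  · obtain ⟨x, hx, hxW⟩ := Set.not_subset.1 hne
    exact ⟨x, hxW⟩
  · intro u v hu hv ⟨x, hxW, hxu⟩ ⟨y, hyW, hyv⟩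
    obtain ⟨z, -, ⟨hzu, hzW⟩, hzv, -⟩ := hZ.1.2 (u ∩ Wᶜ) (v ∩ Wᶜ) (hu.inter hWc.isOpen_compl)
      (hv.inter hWc.isOpen_compl) ⟨x, hsub hxW, hxu, hxW⟩ ⟨y, hsub hyW, hyv, hyW⟩
    exact ⟨z, hzW, hzu, hzv⟩

/-- A connected space covered by irreducible open subsets is irreducible. -/
theorem irreducibleSpace_of_cover {α : Type*} [TopologicalSpace α] [ConnectedSpace α] {J : Type*}
    (W : J → Set α) (hW : ∀ i, IsOpen (W i)) (hi : ∀ i, IsIrreducible (W i)) (hc : ⋃ i, W i = Set.univ) :
    IrreducibleSpace α := by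
  haveI : Nonempty α := inferInstance
  have meet : ∀ (O : Set α), IsOpen O → O.Nonempty → ∀ i, (W i ∩ O).Nonempty := by
    intro O hO hne
    set S : Set α := ⋃ i ∈ {i | (W i ∩ O).Nonempty}, W i with hS
    have hSo : IsOpen S := isOpen_biUnion fun i _ => hW i
    have hSc : IsClosed S := by
      rw [← isOpen_compl_iff]
      have : Sᶜ = ⋃ i ∈ {i | ¬ (W i ∩ O).Nonempty}, W i := by
        ext x
        constructor
        · intro hx
          obtain ⟨i, hxi⟩ := Set.mem_iUnion.1 (hc.ge (Set.mem_univ x))
          exact Set.mem_biUnion (show i ∈ {i | ¬ (W i ∩ O).Nonempty} from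
            fun h => hx (Set.mem_biUnion (show i ∈ {i | (W i ∩ O).Nonempty} from h) hxi)) hxi
        · intro hx hxS
          obtain ⟨j, hj, hxj⟩ := Set.mem_iUnion₂.1 hx
          obtain ⟨i, hi', hxi⟩ := Set.mem_iUnion₂.1 hxS
          -- the two members meet, hence the irreducible one meets the open set
          obtain ⟨z, hzi, hzj, hzO⟩ := (hi i).2 (W j) O (hW j) hO ⟨x, hxi, hxj⟩ hi'
          exact hj ⟨z, hzj, hzO⟩
      rw [this]
      exact isOpen_biUnion fun i _ => hW i
    have hSne : S.Nonempty := by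
      obtain ⟨x, hx⟩ := hne
      obtain ⟨i, hxi⟩ := Set.mem_iUnion.1 (hc.ge (Set.mem_univ x))
      exact ⟨x, Set.mem_biUnion (show i ∈ {i | (W i ∩ O).Nonempty} from ⟨x, hxi, hx⟩) hxi⟩
    have hSu : S = Set.univ := IsClopen.eq_univ ⟨hSc, hSo⟩ hSne
    intro i
    obtain ⟨x, hx⟩ := (hi i).1
    obtain ⟨j, hj, hxj⟩ := Set.mem_iUnion₂.1 (hSu.ge (Set.mem_univ x))
    obtain ⟨z, hzj, hzi, hzO⟩ := (hi j).2 (W i) O (hW i) hO ⟨x, hxj, hx⟩ hj
    exact ⟨z, hzi, hzO⟩
  haveI : PreirreducibleSpace α := by
    refine ⟨fun u v hu hv hune hvne => ?_⟩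
    obtain ⟨x, -, hx⟩ := hune
    obtain ⟨i, -⟩ := Set.mem_iUnion.1 (hc.ge (Set.mem_univ x))
    obtain ⟨z, -, hzu, hzv⟩ := (hi i).2 u v hu hv (meet u hu ⟨x, hx⟩ i)
      (meet v hv (hvne.mono Set.inter_subset_right) i)
    exact ⟨z, trivial, hzu, hzv⟩
  exact ⟨inferInstance⟩

variable {K : Type u} [Field K]

set_option backward.isDefEq.respectTransparency false in
/-- Over an algebraically closed field a connected group scheme locally of finite type is irreducible. -/
theorem irreducibleSpace_of_isAlgClosed [IsAlgClosed K] (G : Over (Spec (CommRingCat.of K))) [GrpObj G]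
    [LocallyOfFiniteType G.hom] [ConnectedSpace G.left] : IrreducibleSpace G.left := by
  let pt : Spec (CommRingCat.of K) := IsLocalRing.closedPoint K
  haveI : JacobsonSpace G.left := LocallyOfFiniteType.jacobsonSpace (Y := Spec _) G.hom
  haveI : IsLocallyNoetherian G.left := LocallyOfFiniteType.isLocallyNoetherian G.hom
  obtain ⟨U, hU, hxU, -⟩ := exists_isAffineOpen_mem_and_subset (X := G.left) (x := η[G].left pt) (U := ⊤) trivial
  haveI : IsNoetherianRing Γ(G.left, U) := IsLocallyNoetherian.component_noetherian ⟨U, hU⟩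
  haveI : TopologicalSpace.NoetherianSpace U := noetherianSpace_of_isAffineOpen U hU
  haveI : Nonempty U := ⟨⟨_, hxU⟩⟩
  obtain ⟨V, hVo, hVi⟩ := exists_isOpen_isIrreducible (α := U)
  set V' : Set G.left := Subtype.val '' V
  have hV'o : IsOpen V' := U.isOpen.isOpenEmbedding_subtypeVal.isOpenMap V hVo
  have hV'i : IsIrreducible V' := hVi.image _ continuous_subtype_val.continuousOn
  obtain ⟨p, hp, hpc⟩ := nonempty_inter_closedPoints hV'i.1 hV'o.isLocallyClosed
  let p' : 𝟙_ (Over (Spec (CommRingCat.of K))) ⟶ G := Over.homMk (pointOfClosedPoint G.hom p hpc) (by simp)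
  -- translations
  let τ : closedPoints G.left → (G ≅ G) := fun g =>
    (GrpObj.mulRight (Over.homMk (pointOfClosedPoint G.hom g.1 g.2) (by simp) :
      𝟙_ (Over (Spec (CommRingCat.of K))) ⟶ G)).symm ≪≫ GrpObj.mulRight p'
  have hτ : ∀ g, (τ g).hom.left g.1 = p := by
    intro g
    set g' : 𝟙_ (Over (Spec (CommRingCat.of K))) ⟶ G := Over.homMk (pointOfClosedPoint G.hom g.1 g.2) (by simp)
    have h : g' ≫ (τ g).hom = p' := by
      dsimp only [Iso.trans_hom, Iso.symm_hom, τ]
      rw [← Category.assoc, ← Iso.eq_comp_inv]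
      simp [g', comp_lift_assoc]
    simpa [g', p', pt] using congr(($h).left pt)
  refine irreducibleSpace_of_cover (fun g : closedPoints G.left => (τ g).hom.left ⁻¹' V') (fun g =>
    hV'o.preimage (τ g).hom.left.continuous) (fun g => ?_) ?_
  · haveI : IsIso (τ g).hom.left := inferInstanceAs (IsIso ((Over.forget _).map (τ g).hom))
    refine ⟨⟨g.1, ?_⟩, hV'i.2.preimage (τ g).hom.left.isOpenEmbedding⟩
    rw [Set.mem_preimage, hτ]; exact hp
  · by_contra hne
    obtain ⟨x, hx⟩ := (Set.ne_univ_iff_exists_notMem _).1 hne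
    have hcl : IsClosed (⋃ g : closedPoints G.left, (τ g).hom.left ⁻¹' V')ᶜ :=
      (isOpen_iUnion fun g : closedPoints G.left => hV'o.preimage (τ g).hom.left.continuous).isClosed_compl
    obtain ⟨q, hq, hqc⟩ := nonempty_inter_closedPoints ⟨x, hx⟩ hcl.isLocallyClosed
    exact hq (Set.mem_iUnion.2 ⟨⟨q, hqc⟩, by rw [Set.mem_preimage, hτ ⟨q, hqc⟩]; exact hp⟩)

/-- Over an algebraically closed field connectedness survives any field extension. -/
theorem connectedSpace_pullback_of_isAlgClosed [IsAlgClosed K] {X : Scheme.{u}} (f : X ⟶ Spec (.of K))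
    [LocallyOfFiniteType f] [ConnectedSpace X] {L : Type u} [Field L] (x : Spec (.of L) ⟶ Spec (.of K)) :
    ConnectedSpace ↥(pullback f x) := by
  haveI : JacobsonSpace X := LocallyOfFiniteType.jacobsonSpace f
  set π := pullback.fst f x
  have hπ : IsOpenMap π := π.isOpenMap
  have hsurj : Function.Surjective π := π.surjective
  have hfib : ∀ (p q : ↥(pullback f x)), IsClosed ({π p} : Set X) → π p = π q → p = q := by
    intro p q hc hpq
    -- the fibre over a rational point is a single point
    set a := pointOfClosedPoint f (π p) hc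
    set e := pullback.fst π a
    have hmem : ∀ r, π r = π p → r ∈ Set.range e := by
      intro r hr
      rw [Scheme.Pullback.range_fst]
      exact ⟨IsLocalRing.closedPoint K, by rw [pointOfClosedPoint_apply]; exact hr.symm⟩
    obtain ⟨z, hz⟩ := hmem p rfl
    obtain ⟨z', hz'⟩ := hmem q hpq.symm
    haveI : Subsingleton ↥(pullback π a) := by
      have hP : IsPullback (pullback.fst π a ≫ pullback.snd f x) (pullback.snd π a) x (a ≫ f) :=
        IsPullback.paste_horiz (IsPullback.of_hasPullback π a)
          (IsPullback.of_hasPullback f x).flip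
      haveI : IsIso (a ≫ f) := by rw [pointOfClosedPoint_comp]; infer_instance
      haveI : IsIso (pullback.fst π a ≫ pullback.snd f x) := hP.isIso_fst_of_isIso
      exact (pullback.fst π a ≫ pullback.snd f x).homeomorph.injective.subsingleton
    rw [← hz, ← hz', Subsingleton.elim z z']
  haveI : Nonempty ↥(pullback f x) := by
    obtain ⟨p, -⟩ := hsurj (Classical.arbitrary X); exact ⟨p⟩
  rw [connectedSpace_iff_clopen]
  refine ⟨inferInstance, fun C hC => ?_⟩
  by_contra hne
  push Not at hne
  obtain ⟨hC1, hC2⟩ := hne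
  have hdis : Disjoint (π '' C) (π '' Cᶜ) := by
    rw [Set.disjoint_iff_inter_eq_empty, ← Set.not_nonempty_iff_eq_empty]
    intro h
    obtain ⟨y, ⟨⟨p, hpC, hp⟩, ⟨q, hqC, hq⟩⟩, hyc⟩ := nonempty_inter_closedPoints h
      ((hπ _ hC.isOpen).inter (hπ _ hC.isClosed.isOpen_compl)).isLocallyClosed
    exact hqC (hfib p q (hp ▸ hyc) (hp.trans hq.symm) ▸ hpC)
  have hcov : π '' C ∪ π '' Cᶜ = Set.univ := by
    rw [← Set.image_union, Set.union_compl_self, Set.image_univ, hsurj.range_eq]
  rcases isClopen_iff.1 (show IsClopen (π '' C) from ⟨by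
      rw [← isOpen_compl_iff, show (π '' C)ᶜ = π '' Cᶜ from ?_]
      · exact hπ _ hC.isClosed.isOpen_compl
      · exact ((IsCompl.of_eq hdis.eq_bot hcov).compl_eq), hπ _ hC.isOpen⟩) with h | h
  · exact (hC1.image π).ne_empty h
  · obtain ⟨q, hq⟩ := Set.nonempty_compl.2 hC2
    exact Set.disjoint_left.1 hdis (h.ge (Set.mem_univ (π q))) ⟨q, hq, rfl⟩

/-- A connected scheme with a rational point stays connected over an algebraic closure. -/
theorem connectedSpace_pullback_algebraicClosure (X : Over (Spec (CommRingCat.of K))) [ConnectedSpace X.left]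
    (a : 𝟙_ (Over (Spec (CommRingCat.of K))) ⟶ X) :
    ConnectedSpace ↥(pullback X.hom (Spec.map (CommRingCat.ofHom (algebraMap K (AlgebraicClosure K))))) := by
  set φ := Spec.map (CommRingCat.ofHom (algebraMap K (AlgebraicClosure K)))
  haveI : IsIntegralHom φ := by
    rw [IsIntegralHom.SpecMap_iff]
    exact algebraMap_isIntegral_iff.2 inferInstance
  set π := pullback.fst X.hom φ
  haveI : IsIntegralHom π := MorphismProperty.pullback_fst _ _ inferInstance
  let pt : Spec (CommRingCat.of K) := IsLocalRing.closedPoint K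
  -- the fibre over the rational point is a single point
  have hfib : ∀ p q, π p = a.left pt → π q = a.left pt → p = q := by
    intro p q hp hq
    have hmem : ∀ r, π r = a.left pt → r ∈ Set.range (pullback.fst π a.left) := fun r hr => by
      rw [Scheme.Pullback.range_fst]; exact ⟨pt, hr.symm⟩
    obtain ⟨z, hz⟩ := hmem p hp
    obtain ⟨z', hz'⟩ := hmem q hq
    haveI : Subsingleton ↥(pullback π a.left) := by
      have hP : IsPullback (pullback.fst π a.left ≫ pullback.snd X.hom φ) (pullback.snd π a.left) φ (a.left ≫ X.hom) :=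
        IsPullback.paste_horiz (IsPullback.of_hasPullback π a.left)
          (IsPullback.of_hasPullback X.hom φ).flip
      haveI : IsIso (a.left ≫ X.hom) := by rw [Over.w]; exact inferInstanceAs (IsIso (𝟙 _))
      haveI : IsIso (pullback.fst π a.left ≫ pullback.snd X.hom φ) := hP.isIso_fst_of_isIso
      exact (pullback.fst π a.left ≫ pullback.snd X.hom φ).homeomorph.injective.subsingleton
    rw [← hz, ← hz', Subsingleton.elim z z']
  obtain ⟨o, ho⟩ := π.surjective (a.left pt)
  haveI : Nonempty ↥(pullback X.hom φ) := ⟨o⟩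
  rw [connectedSpace_iff_clopen]
  refine ⟨inferInstance, fun C hC => ?_⟩
  have key : ∀ D : Set ↥(pullback X.hom φ), IsClopen D → D.Nonempty → o ∈ D := by
    intro D hD hne
    have : π '' D = Set.univ := IsClopen.eq_univ
      ⟨π.isClosedMap _ hD.isClosed, π.isOpenMap _ hD.isOpen⟩ (hne.image _)
    obtain ⟨p, hp, hpe⟩ := this.ge (Set.mem_univ (a.left pt))
    exact hfib p o hpe ho ▸ hp
  by_contra hne
  push Not at hne
  exact key Cᶜ hC.compl (Set.nonempty_compl.2 hne.2) (key C hC hne.1)

set_option backward.isDefEq.respectTransparency false in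
set_option backward.defeqAttrib.useBackward true in
/-- A connected group scheme locally of finite type over a field is geometrically irreducible. -/
theorem geometricallyIrreducible_of_connected (G : Over (Spec (CommRingCat.of K))) [GrpObj G]
    [LocallyOfFiniteType G.hom] [ConnectedSpace G.left] : GeometricallyIrreducible G.hom := by
  rw [geometricallyIrreducible_iff, geometrically_iff_of_commRing_of_isClosedUnderIsomorphisms]
  intro L _ _
  let Ω := AlgebraicClosure L
  let ι₀ : AlgebraicClosure K →ₐ[K] Ω := IsAlgClosed.lift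
  let φ := Spec.map (CommRingCat.ofHom (algebraMap K (AlgebraicClosure K)))
  let ψ := Spec.map (CommRingCat.ofHom ι₀.toRingHom)
  let χ := Spec.map (CommRingCat.ofHom (algebraMap K L))
  let ρ := Spec.map (CommRingCat.ofHom (algebraMap L Ω))
  have hc : ρ ≫ χ = ψ ≫ φ := by
    simp only [ρ, χ, ψ, φ, ← Spec.map_comp, ← CommRingCat.ofHom_comp]
    congr 2
    ext k
    simp only [RingHom.comp_apply]
    exact (IsScalarTower.algebraMap_apply K L Ω k).symm.trans (ι₀.commutes k).symm
  let G₁ := (Over.pullback φ).obj G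
  letI : GrpObj G₁ := Functor.grpObjObj
  haveI : LocallyOfFiniteType G₁.hom := by dsimp [G₁]; infer_instance
  haveI : ConnectedSpace G₁.left := connectedSpace_pullback_algebraicClosure G η[G]
  let G₂ := (Over.pullback ψ).obj G₁
  letI : GrpObj G₂ := Functor.grpObjObj
  haveI : LocallyOfFiniteType G₂.hom := by dsimp [G₂]; infer_instance
  haveI : ConnectedSpace G₂.left := connectedSpace_pullback_of_isAlgClosed G₁.hom ψ
  haveI : IrreducibleSpace G₂.left := irreducibleSpace_of_isAlgClosed G₂
  -- compare with the base change along L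
  have hP : IsPullback (pullback.fst G₁.hom ψ ≫ pullback.fst G.hom φ) (pullback.snd G₁.hom ψ) G.hom (ρ ≫ χ) := by
    rw [hc]
    exact IsPullback.paste_horiz (IsPullback.of_hasPullback G₁.hom ψ) (IsPullback.of_hasPullback G.hom φ)
  let s : G₂.left ⟶ pullback G.hom χ :=
    pullback.lift (pullback.fst G₁.hom ψ ≫ pullback.fst G.hom φ) (pullback.snd G₁.hom ψ ≫ ρ)
      (hP.w.trans (Category.assoc _ _ _).symm)
  have hs : IsPullback s (pullback.snd G₁.hom ψ) (pullback.snd G.hom χ) ρ := by
    refine IsPullback.of_right (h₁₂ := pullback.fst G.hom χ) ?_ (pullback.lift_snd _ _ _) (IsPullback.of_hasPullback _ _)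
    rw [pullback.lift_fst]; exact hP
  haveI : Surjective s := MorphismProperty.of_isPullback (P := @Surjective) hs.flip inferInstance
  exact (Function.Surjective.preirreducibleSpace s.continuous s.surjective) |> fun h =>
    { toPreirreducibleSpace := h, toNonempty := ⟨s (Classical.arbitrary _)⟩ }

/-- A connected, geometrically reduced group scheme locally of finite type is geometrically integral. -/
theorem geometricallyIntegral_of_connected (G : Over (Spec (CommRingCat.of K))) [GrpObj G]
    [LocallyOfFiniteType G.hom] [ConnectedSpace G.left] [GeometricallyReduced G.hom] :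
    GeometricallyIntegral G.hom :=
  haveI := geometricallyIrreducible_of_connected G
  GeometricallyIntegral.of_geometricallyReduced_of_geometricallyIrreducible _

end Groth.Agent.AbRigid
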