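import Mathlib.AlgebraicGeometry.Morphisms.UniversallyOpen
import Mathlib.AlgebraicGeometry.PullbackCarrier
import Mathlib.AlgebraicGeometry.Fiber
import Mathlib.AlgebraicGeometry.Morphisms.ClosedImmersion
import Mathlib.AlgebraicGeometry.Morphisms.Immersion
import Mathlib.AlgebraicGeometry.Pullbacks
import Mathlib.CategoryTheory.Monoidal.Cartesian.Grp

/-!
# Topology of group schemes over a field
-/

open CategoryTheory Limits AlgebraicGeometry MonoidalCategory CartesianMonoidalCategory MonObj GrpObj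

namespace Groth.Agent.AbRigid

universe u

variable {K : Type u} [Field K]

/-- On each fibre of the second projection of a product over a field, the first projection is open. -/
theorem isOpen_image_fst_fibre (A B : Over (Spec (CommRingCat.of K))) (O : Set (A ⊗ B).left)
    (hO : IsOpen O) (b : B.left) :
    IsOpen ((fst A B).left '' (O ∩ (snd A B).left ⁻¹' {b})) := by
  set j := (pullback.snd A.hom B.hom).fiberι b with hι
  have hP : IsPullback (j ≫ pullback.fst A.hom B.hom)
      ((pullback.snd A.hom B.hom).fiberToSpecResidueField b) A.hom (B.left.fromSpecResidueField b ≫ B.hom) := by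
    exact IsPullback.paste_horiz (IsPullback.of_hasPullback _ _) (IsPullback.of_hasPullback A.hom B.hom)
  have hU : UniversallyOpen (j ≫ pullback.fst A.hom B.hom) :=
    MorphismProperty.of_isPullback (P := @UniversallyOpen) hP.flip inferInstance
  have hop := (j ≫ pullback.fst A.hom B.hom).isOpenMap _ (hO.preimage j.continuous)
  convert! hop using 1
  ext a
  constructor
  · rintro ⟨p, ⟨hpO, hpb⟩, rfl⟩
    have hp : p ∈ Set.range j := by rw [hι, Scheme.Hom.range_fiberι]; exact hpb
    obtain ⟨z, rfl⟩ := hp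
    exact ⟨z, hpO, Scheme.Hom.comp_apply _ _ _⟩
  · rintro ⟨z, hz, rfl⟩
    refine ⟨j z, ⟨hz, ?_⟩, (Scheme.Hom.comp_apply _ _ _).symm⟩
    have : j z ∈ Set.range j := ⟨z, rfl⟩
    rw [hι, Scheme.Hom.range_fiberι] at this
    exact this

/-- The symmetric statement. -/
theorem isOpen_image_snd_fibre (A B : Over (Spec (CommRingCat.of K))) (O : Set (A ⊗ B).left)
    (hO : IsOpen O) (a : A.left) :
    IsOpen ((snd A B).left '' (O ∩ (fst A B).left ⁻¹' {a})) := by
  have h := isOpen_image_fst_fibre B A ((lift (snd B A) (fst B A)).left ⁻¹' O)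
    (hO.preimage (lift (snd B A) (fst B A)).left.continuous) a
  convert! h using 1
  have e1 : ∀ p, (fst A B).left ((lift (snd B A) (fst B A)).left p) = (snd B A).left p := fun p => by
    rw [← Scheme.Hom.comp_apply, ← Over.comp_left, lift_fst]
  have e2 : ∀ p, (snd A B).left ((lift (snd B A) (fst B A)).left p) = (fst B A).left p := fun p => by
    rw [← Scheme.Hom.comp_apply, ← Over.comp_left, lift_snd]
  have e3 : ∀ q, (lift (snd B A) (fst B A)).left ((lift (snd A B) (fst A B)).left q) = q := fun q => by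
    rw [← Scheme.Hom.comp_apply, ← Over.comp_left, comp_lift, lift_snd, lift_fst, lift_fst_snd]
    rfl
  ext y
  constructor
  · rintro ⟨q, ⟨hqO, hqa⟩, rfl⟩
    refine ⟨(lift (snd A B) (fst A B)).left q, ⟨?_, ?_⟩, ?_⟩
    · rw [Set.mem_preimage, e3]; exact hqO
    · rw [Set.mem_preimage, ← e1, e3]; exact hqa
    · rw [← e2, e3]
  · rintro ⟨p, ⟨hpO, hpa⟩, rfl⟩
    refine ⟨_, ⟨hpO, ?_⟩, e2 p⟩
    rw [Set.mem_preimage, e1]; exact hpa

/-- Any two points of two schemes over a field are the projections of a point of the product. -/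
theorem exists_point (A B : Over (Spec (CommRingCat.of K))) (a : A.left) (b : B.left) :
    ∃ p : (A ⊗ B).left, (fst A B).left p = a ∧ (snd A B).left p = b :=
  Scheme.Pullback.exists_preimage_pullback (f := A.hom) (g := B.hom) a b
    (Subsingleton.elim (α := Spec (CommRingCat.of K)) _ _)

theorem left_comp_apply {A B C : Over (Spec (CommRingCat.of K))} (f : A ⟶ B) (g : B ⟶ C) (p : A.left) :
    (f ≫ g).left p = g.left (f.left p) := by
  rw [Over.comp_left, Scheme.Hom.comp_apply]

variable {G : Over (Spec (CommRingCat.of K))} [GrpObj G]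

/-- For points `a`, `c`, the point set of possible `a⁻¹ c`. -/
noncomputable abbrev quot (G : Over (Spec (CommRingCat.of K))) [GrpObj G] : G ⊗ G ⟶ G :=
  (fst G G)⁻¹ * snd G G

/-- A subset is stable under products. -/
def MulStable (H : Set G.left) : Prop :=
  ∀ q : (G ⊗ G).left, (fst G G).left q ∈ H → (snd G G).left q ∈ H → μ[G].left q ∈ H

theorem snd_mem_of_fst_of_quot {H : Set G.left} (hH : MulStable H) {p : (G ⊗ G).left}
    (h1 : (fst G G).left p ∈ H) (h2 : (quot G).left p ∈ H) : (snd G G).left p ∈ H := by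
  have h := hH ((lift (fst G G) (quot G)).left p)
    (by rwa [← left_comp_apply, lift_fst]) (by rwa [← left_comp_apply, lift_snd])
  rwa [← left_comp_apply, ← Hom.mul_def, mul_inv_cancel_left] at h

/-- The fibre over any point contains a point with prescribed quotient. -/
theorem exists_quot_eq (c : G.left) (d : G.left) :
    ∃ p : (G ⊗ G).left, (snd G G).left p = c ∧ (quot G).left p = d := by
  obtain ⟨q, hq1, hq2⟩ := exists_point G G d c
  refine ⟨(lift (snd G G * (fst G G)⁻¹) (snd G G)).left q, ?_, ?_⟩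
  · rw [← left_comp_apply, lift_snd, hq2]
  · rw [← left_comp_apply, comp_mul, GrpObj.comp_inv, lift_fst, lift_snd, _root_.mul_inv_rev, _root_.inv_inv,
      inv_mul_cancel_right, hq1]

variable {H : Over (Spec (CommRingCat.of K))} [GrpObj H] (ψ : H ⟶ G) [IsMonHom ψ]

theorem exists_tensor_lift {q : (G ⊗ G).left} (h1 : (fst G G).left q ∈ Set.range ψ.left)
    (h2 : (snd G G).left q ∈ Set.range ψ.left) : q ∈ Set.range (ψ ⊗ₘ ψ).left := by
  rw [Over.tensorHom_left, Scheme.Pullback.range_map]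
  exact ⟨h1, h2⟩

theorem mulStable_range : MulStable (Set.range ψ.left) := by
  intro q h1 h2
  obtain ⟨r, rfl⟩ := exists_tensor_lift ψ h1 h2
  refine ⟨μ[H].left r, ?_⟩
  rw [← left_comp_apply, ← left_comp_apply, IsMonHom.mul_hom]

theorem inv_mem_range {x : G.left} (h : x ∈ Set.range ψ.left) : (ι[G]).left x ∈ Set.range ψ.left := by
  obtain ⟨y, rfl⟩ := h
  refine ⟨(ι[H]).left y, ?_⟩
  rw [← left_comp_apply, ← left_comp_apply]
  exact congrArg (fun f : H ⟶ G => f.left y) (GrpObj.inv_hom ψ)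

theorem one_mem_range : (η[G]).left (IsLocalRing.closedPoint K) ∈ Set.range ψ.left :=
  ⟨(η[H]).left (IsLocalRing.closedPoint K), by rw [← left_comp_apply, IsMonHom.one_hom]⟩

theorem isClosed_range_of_isOpen (h : IsOpen (Set.range ψ.left)) : IsClosed (Set.range ψ.left) := by
  rw [← closure_subset_iff_isClosed]
  intro x hx
  obtain ⟨d, hd⟩ : ∃ d, d ∈ Set.range ψ.left := ⟨_, one_mem_range ψ⟩
  obtain ⟨p, hp1, hp2⟩ := exists_quot_eq (G := G) x d
  have hW : IsOpen ((fst G G).left '' ((quot G).left ⁻¹' Set.range ψ.left ∩ (snd G G).left ⁻¹' {x})) :=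
    isOpen_image_fst_fibre G G _ (h.preimage (quot G).left.continuous) x
  -- the translate of the open subgroup is an open set containing `x`
  obtain ⟨p', hp'1, hp'2⟩ : ∃ p' : (G ⊗ G).left, (snd G G).left p' = x ∧ (fst G G).left p' = x ∧
      (quot G).left p' ∈ Set.range ψ.left := by
    refine ⟨(lift (𝟙 G) (𝟙 G)).left x, ?_, ?_, ?_⟩
    · rw [← left_comp_apply, lift_snd]; rfl
    · rw [← left_comp_apply, lift_fst]; rfl
    · rw [← left_comp_apply, comp_mul, GrpObj.comp_inv, lift_fst, lift_snd, inv_mul_cancel, ← one_eq_one',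
        left_comp_apply]
      convert! one_mem_range ψ using 2
      exact Subsingleton.elim (α := Spec (CommRingCat.of K)) _ _
  obtain ⟨a, ⟨q, ⟨hq1, hq2⟩, hqa⟩, ha⟩ := mem_closure_iff.1 hx _ hW ⟨p', ⟨hp'2.2, hp'1⟩, hp'2.1⟩
  rw [← (hq2 : (snd G G).left q = x)]
  exact snd_mem_of_fst_of_quot (mulStable_range ψ) (hqa ▸ ha) hq1
where
  one_eq_one' {A : Over (Spec (CommRingCat.of K))} : toUnit A ≫ η[G] = (1 : A ⟶ G) := by
    rw [one_eq_one, comp_one]

theorem mulStable_closure_range : MulStable (closure (Set.range ψ.left)) := by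
  intro q h1 h2
  rw [mem_closure_iff]
  intro O hO hq
  -- move the first coordinate into the range, then the second one
  have hW : IsOpen ((fst G G).left '' (μ[G].left ⁻¹' O ∩ (snd G G).left ⁻¹' {(snd G G).left q})) :=
    isOpen_image_fst_fibre G G _ (hO.preimage μ[G].left.continuous) _
  obtain ⟨a, ⟨q', ⟨hq'O, hq'2⟩, rfl⟩, ha⟩ := mem_closure_iff.1 h1 _ hW ⟨q, ⟨hq, rfl⟩, rfl⟩
  have hW' : IsOpen ((snd G G).left '' (μ[G].left ⁻¹' O ∩ (fst G G).left ⁻¹' {(fst G G).left q'})) :=
    isOpen_image_snd_fibre G G _ (hO.preimage μ[G].left.continuous) _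
  obtain ⟨b, ⟨q'', ⟨hq''O, hq''1⟩, rfl⟩, hb⟩ :=
    mem_closure_iff.1 h2 _ hW' ⟨q', ⟨hq'O, rfl⟩, hq'2⟩
  exact ⟨_, hq''O, mulStable_range ψ q'' ((hq''1 : (fst G G).left q'' = _) ▸ ha) hb⟩

theorem inv_mem_closure_range {x : G.left} (h : x ∈ closure (Set.range ψ.left)) :
    (ι[G]).left x ∈ closure (Set.range ψ.left) :=
  map_mem_closure (ι[G]).left.continuous h fun _ hy => inv_mem_range ψ hy

theorem quot_mem_closure {p : (G ⊗ G).left} (h1 : (fst G G).left p ∈ closure (Set.range ψ.left))
    (h2 : (snd G G).left p ∈ closure (Set.range ψ.left)) : (quot G).left p ∈ closure (Set.range ψ.left) := by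
  have h := mulStable_closure_range ψ ((lift ((fst G G)⁻¹) (snd G G)).left p) ?_ ?_
  · rwa [← left_comp_apply, ← Hom.mul_def] at h
  · rw [← left_comp_apply, lift_fst, show (fst G G)⁻¹ = fst G G ≫ ι[G] from rfl, left_comp_apply]
    exact inv_mem_closure_range ψ h1
  · rwa [← left_comp_apply, lift_snd]

theorem isClosed_range_of_isLocallyClosed (h : IsLocallyClosed (Set.range ψ.left)) :
    IsClosed (Set.range ψ.left) := by
  set R := Set.range ψ.left with hR
  rw [← closure_subset_iff_isClosed]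
  intro x hx
  obtain ⟨O, hO, hRO⟩ : ∃ O, IsOpen O ∧ O ∩ closure R = R := by
    refine ⟨coborder R, h.isOpen_coborder, ?_⟩
    exact coborder_inter_closure
  obtain ⟨d, hd⟩ : ∃ d, d ∈ R := ⟨_, one_mem_range ψ⟩
  obtain ⟨p, hp1, hp2⟩ := exists_quot_eq (G := G) x d
  have hpZ : (fst G G).left p ∈ closure R := by
    have hZ := mulStable_closure_range ψ
      ((lift (snd G G) ((quot G)⁻¹)).left p) (by rwa [← left_comp_apply, lift_fst, hp1]) (by
        rw [← left_comp_apply, lift_snd, show (quot G)⁻¹ = quot G ≫ ι[G] from rfl, left_comp_apply, hp2]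
        exact inv_mem_closure_range ψ (subset_closure hd))
    rwa [← left_comp_apply, ← Hom.mul_def, _root_.mul_inv_rev, _root_.inv_inv, mul_inv_cancel_left] at hZ
  have hW : IsOpen ((fst G G).left '' ((quot G).left ⁻¹' O ∩ (snd G G).left ⁻¹' {x})) :=
    isOpen_image_fst_fibre G G _ (hO.preimage (quot G).left.continuous) x
  obtain ⟨a, ⟨q, ⟨hqO, hq2⟩, rfl⟩, ha⟩ := mem_closure_iff.1 hpZ _ hW
    ⟨p, ⟨by rw [Set.mem_preimage, hp2]; exact (hRO.ge hd).1, hp1⟩, rfl⟩
  have hq2' : (snd G G).left q = x := hq2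
  have hqR : (quot G).left q ∈ R :=
    hRO.le ⟨hqO, quot_mem_closure ψ (subset_closure ha) (by rw [hq2']; exact hx)⟩
  rw [← hq2']
  exact snd_mem_of_fst_of_quot (mulStable_range ψ) ha hqR

theorem isClosedImmersion_of_isImmersion [IsImmersion ψ.left] : IsClosedImmersion ψ.left :=
  .of_isPreimmersion _ (isClosed_range_of_isLocallyClosed ψ ψ.left.isLocallyClosed_range)

omit [GrpObj H] in
/-- Two dense open subsets generate in one step. -/
theorem exists_mul_eq (U V : G.left.Opens) (hU : Dense (U : Set G.left)) (hV : (V : Set G.left).Nonempty)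
    (x : G.left) : ∃ q : (G ⊗ G).left, (fst G G).left q ∈ U ∧ (snd G G).left q ∈ V ∧ μ[G].left q = x := by
  obtain ⟨d, hd⟩ := hV
  obtain ⟨p, hp1, hp2⟩ := exists_quot_eq (G := G) x d
  have hW : IsOpen ((fst G G).left '' ((quot G).left ⁻¹' (V : Set G.left) ∩ (snd G G).left ⁻¹' {x})) :=
    isOpen_image_fst_fibre G G _ (V.isOpen.preimage (quot G).left.continuous) x
  obtain ⟨a, ⟨q, ⟨hqV, hq2⟩, rfl⟩, ha⟩ :=
    hU.inter_open_nonempty _ hW ⟨_, p, ⟨by rw [Set.mem_preimage, hp2]; exact hd, hp1⟩, rfl⟩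
  refine ⟨(lift (fst G G) (quot G)).left q, ?_, ?_, ?_⟩
  · rwa [← left_comp_apply, lift_fst]
  · rwa [← left_comp_apply, lift_snd]
  · rw [← left_comp_apply, ← Hom.mul_def, mul_inv_cancel_left]
    exact hq2

end Groth.Agent.AbRigid
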