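import Mathlib.CategoryTheory.Monoidal.Cartesian.Grp
import Mathlib.CategoryTheory.Monoidal.Cartesian.Over
import Mathlib.CategoryTheory.Limits.Shapes.Pullback.IsPullback.BicartesianSq

/-!
# Shear maps and elementary pullback squares for group objects
-/

open CategoryTheory Limits MonoidalCategory CartesianMonoidalCategory MonObj

namespace Groth.Agent.AbRigid

universe v u

variable {C : Type u} [Category.{v} C] [CartesianMonoidalCategory C]

theorem isPullback_whiskerRight {A B : C} (f : A ⟶ B) (Y : C) :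
    IsPullback (fst A Y) (f ▷ Y) f (fst B Y) := by
  refine ⟨⟨by simp⟩, ⟨PullbackCone.IsLimit.mk _ (fun s => lift s.fst (s.snd ≫ snd B Y)) (fun s => lift_fst _ _)
    (fun s => ?_) (fun s m h1 h2 => ?_)⟩⟩
  · apply CartesianMonoidalCategory.hom_ext
    · simp [s.condition]
    · simp
  · apply CartesianMonoidalCategory.hom_ext
    · simpa using h1
    · simp [← h2]

theorem isPullback_whiskerLeft {A B : C} (f : A ⟶ B) (Y : C) :
    IsPullback (snd Y A) (Y ◁ f) f (snd Y B) := by
  refine ⟨⟨by simp⟩, ⟨PullbackCone.IsLimit.mk _ (fun s => lift (s.snd ≫ fst Y B) s.fst) (fun s => lift_snd _ _)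
    (fun s => ?_) (fun s m h1 h2 => ?_)⟩⟩
  · apply CartesianMonoidalCategory.hom_ext
    · simp
    · simp [s.condition]
  · apply CartesianMonoidalCategory.hom_ext
    · simp [← h2]
    · simpa using h1

/-- The shear automorphism of `A ⊗ G` attached to a point `ψ : A ⟶ G`. -/
noncomputable def shear {A G : C} [GrpObj G] (ψ : A ⟶ G) : A ⊗ G ≅ A ⊗ G where
  hom := lift (fst A G) ((fst A G ≫ ψ) * snd A G)
  inv := lift (fst A G) ((fst A G ≫ ψ)⁻¹ * snd A G)
  hom_inv_id := by
    apply CartesianMonoidalCategory.hom_ext <;>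
      simp [comp_mul, GrpObj.comp_inv]
  inv_hom_id := by
    apply CartesianMonoidalCategory.hom_ext <;>
      simp [comp_mul, GrpObj.comp_inv]

theorem shear_hom_snd {A G : C} [GrpObj G] (ψ : A ⟶ G) : ψ ▷ G ≫ μ[G] = (shear ψ).hom ≫ snd A G := by
  rw [shear, lift_snd, Hom.mul_def]
  congr 1
  apply CartesianMonoidalCategory.hom_ext <;> simp

/-- The right shear `(a, b) ↦ (ab, b)`. -/
noncomputable def shearR (G : C) [GrpObj G] : G ⊗ G ≅ G ⊗ G where
  hom := lift (fst G G * snd G G) (snd G G)
  inv := lift (fst G G * (snd G G)⁻¹) (snd G G)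
  hom_inv_id := by
    apply CartesianMonoidalCategory.hom_ext <;> simp [comp_mul, GrpObj.comp_inv]
  inv_hom_id := by
    apply CartesianMonoidalCategory.hom_ext <;> simp [comp_mul, GrpObj.comp_inv]

end Groth.Agent.AbRigid
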