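import Groth.Agent.Lib.AbRigid.Epi
import Groth.Agent.Lib.AbRigid.Shear
import Mathlib.AlgebraicGeometry.Morphisms.UniversallyOpen
import Mathlib.CategoryTheory.Limits.Constructions.Over.Connected

/-!
# The image of a homomorphism out of a proper geometrically integral group
-/

open CategoryTheory Limits AlgebraicGeometry MonoidalCategory CartesianMonoidalCategory MonObj

namespace Groth.Agent.AbRigid

universe u

theorem isSchemeTheoreticallyDominant_toImage {X Y : Scheme.{u}} (f : X ⟶ Y) :
    IsSchemeTheoreticallyDominant f.toImage := by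
  refine ⟨?_⟩
  set e := f.toImage.imageι ≫ f.imageι
  have hf : f.toImage.toImage ≫ e = f := by
    simp only [e, ← Category.assoc, Scheme.Hom.toImage_imageι]
  have h1 : e.ker = f.imageι.ker := by
    refine le_antisymm ?_ (Scheme.Hom.le_ker_comp _ _)
    rw [show f.imageι.ker = f.ker from Scheme.IdealSheafData.ker_subschemeι _]
    conv_rhs => rw [← hf]
    exact Scheme.Hom.le_ker_comp _ _
  haveI : IsIso f.toImage.imageι := IsClosedImmersion.isIso_of_ker_eq e f.imageι _ rfl h1
  rw [← Scheme.IdealSheafData.ker_subschemeι f.toImage.ker]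
  exact IsClosedImmersion.isIso_iff_ker_eq_bot.1 ‹_›

variable {K : Type u} [Field K]

theorem flat_fst_left (A B : Over (Spec (CommRingCat.of K))) : Flat (fst A B).left := by
  dsimp; infer_instance

theorem flat_snd_left (A B : Over (Spec (CommRingCat.of K))) : Flat (snd A B).left := by
  dsimp; infer_instance

/-- The group structure on a scheme mapping monomorphically and compatibly into a group. -/
@[implicit_reducible]
def grpObjOfMono {C : Type*} [Category C] [CartesianMonoidalCategory C] {Z G : C} [GrpObj G] (i : Z ⟶ G)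
    [Mono i] (e : 𝟙_ C ⟶ Z) (he : e ≫ i = η[G]) (m : Z ⊗ Z ⟶ Z)
    (hm : m ≫ i = (i ⊗ₘ i) ≫ μ[G]) (v : Z ⟶ Z) (hv : v ≫ i = i ≫ ι[G]) : GrpObj Z where
  one := e
  mul := m
  inv := v
  one_mul := by
    rw [← cancel_mono i, Category.assoc, hm, MonoidalCategory.tensorHom_def,
      ← Category.assoc (e ▷ Z), ← Category.assoc (e ▷ Z), ← MonoidalCategory.comp_whiskerRight, he,
      Category.assoc, ← MonoidalCategory.whisker_exchange_assoc, MonObj.one_mul]
    simp
  mul_one := by
    rw [← cancel_mono i, Category.assoc, hm, MonoidalCategory.tensorHom_def',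
      ← Category.assoc (Z ◁ e), ← Category.assoc (Z ◁ e), ← MonoidalCategory.whiskerLeft_comp, he,
      Category.assoc, MonoidalCategory.whisker_exchange_assoc, MonObj.mul_one]
    simp
  mul_assoc := by
    have h1 : (m ▷ Z) ≫ (i ⊗ₘ i) = ((i ⊗ₘ i) ⊗ₘ i) ≫ (μ[G] ▷ G) := by
      rw [← MonoidalCategory.tensorHom_id, MonoidalCategory.tensorHom_comp_tensorHom, ← MonoidalCategory.tensorHom_id μ[G],
        MonoidalCategory.tensorHom_comp_tensorHom, hm, Category.id_comp, Category.comp_id]
    have h2 : (Z ◁ m) ≫ (i ⊗ₘ i) = (i ⊗ₘ (i ⊗ₘ i)) ≫ (G ◁ μ[G]) := by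
      rw [← MonoidalCategory.id_tensorHom, MonoidalCategory.tensorHom_comp_tensorHom, ← MonoidalCategory.id_tensorHom G μ[G],
        MonoidalCategory.tensorHom_comp_tensorHom, hm, Category.id_comp, Category.comp_id]
    rw [← cancel_mono i]
    simp only [Category.assoc, hm]
    rw [reassoc_of% h1, reassoc_of% h2, MonObj.mul_assoc, MonoidalCategory.associator_naturality_assoc]
  left_inv := by
    rw [← cancel_mono i, Category.assoc, hm, lift_map_assoc, Category.id_comp, hv, Category.assoc, he,
      ← Hom.mul_def, show i ≫ ι[G] = i⁻¹ from rfl, inv_mul_cancel]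
    rfl
  right_inv := by
    rw [← cancel_mono i, Category.assoc, hm, lift_map_assoc, Category.id_comp, hv, Category.assoc, he,
      ← Hom.mul_def, show i ≫ ι[G] = i⁻¹ from rfl, mul_inv_cancel]
    rfl

set_option backward.isDefEq.respectTransparency false in
/-- The scheme-theoretic image of a homomorphism from a proper geometrically integral group. -/
theorem exists_image (A G : Over (Spec (CommRingCat.of K))) [GrpObj A] [IsProper A.hom]
    [GeometricallyIntegral A.hom] [GrpObj G] [IsSeparated G.hom] [LocallyOfFiniteType G.hom]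
    (f : A ⟶ G) [IsMonHom f] :
    ∃ (Z : Over (Spec (CommRingCat.of K))) (_ : GrpObj Z) (i : Z ⟶ G) (q : A ⟶ Z),
      IsMonHom i ∧ IsMonHom q ∧ IsClosedImmersion i.left ∧ IsProper Z.hom ∧ GeometricallyIntegral Z.hom ∧
        Surjective q.left ∧ IsSchemeTheoreticallyDominant q.left ∧ QuasiCompact q.left ∧ q ≫ i = f := by
  haveI : IsProper (f.left ≫ G.hom) := by rw [Over.w]; infer_instance
  haveI : IsProper f.left := .of_comp _ G.hom
  let Z : Over (Spec (CommRingCat.of K)) := Over.mk (f.left.imageι ≫ G.hom)
  let i : Z ⟶ G := Over.homMk f.left.imageι rfl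
  let q : A ⟶ Z := Over.homMk f.left.toImage (by simp [Z])
  have hqi : q ≫ i = f := by ext1; exact f.left.toImage_imageι
  haveI hci : IsClosedImmersion i.left := inferInstanceAs (IsClosedImmersion f.left.imageι)
  haveI : Mono i := (Over.forget _).mono_of_mono_map (f := i) (show Mono i.left from inferInstance)
  haveI hqd : IsSchemeTheoreticallyDominant q.left := isSchemeTheoreticallyDominant_toImage f.left
  haveI hqc : QuasiCompact q.left := inferInstanceAs (QuasiCompact f.left.toImage)
  haveI : UniversallyClosed f.left.toImage := inferInstance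
  haveI : IsDominant f.left.toImage := inferInstance
  haveI hqs : Surjective q.left := Surjective.of_universallyClosed_of_isDominant f.left.toImage
  haveI : LocallyOfFiniteType Z.hom := by dsimp [Z]; infer_instance
  haveI : IsSeparated Z.hom := by dsimp [Z]; infer_instance
  haveI : UniversallyClosed (q.left ≫ Z.hom) := by rw [Over.w]; infer_instance
  haveI : UniversallyClosed Z.hom := UniversallyClosed.of_comp_surjective q.left Z.hom
  have hZp : IsProper Z.hom := {}
  -- lifting along the closed immersion
  have hlift : ∀ {W V : Over (Spec (CommRingCat.of K))} (r : V ⟶ W) (g : W ⟶ G),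
      IsSchemeTheoreticallyDominant r.left → (∃ s : V ⟶ Z, s ≫ i = r ≫ g) → ∃ t : W ⟶ Z, t ≫ i = g := by
    intro W V r g hr ⟨s, hs⟩
    have hker : i.left.ker ≤ g.left.ker := by
      calc i.left.ker ≤ (s.left ≫ i.left).ker := Scheme.Hom.le_ker_comp _ _
        _ = (r.left ≫ g.left).ker := by rw [← Over.comp_left, hs, Over.comp_left]
        _ = g.left.ker := by rw [Scheme.Hom.ker_comp, r.left.ker_eq_bot, Scheme.IdealSheafData.map_bot]
    refine ⟨Over.homMk (IsClosedImmersion.lift i.left g.left hker) ?_, ?_⟩
    · show _ ≫ i.left ≫ G.hom = _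
      rw [IsClosedImmersion.lift_fac_assoc, Over.w]
    · ext1; exact IsClosedImmersion.lift_fac _ _ _
  have hqq : IsSchemeTheoreticallyDominant (q ⊗ₘ q).left := by
    rw [MonoidalCategory.tensorHom_def, Over.comp_left]
    haveI : IsSchemeTheoreticallyDominant ((Over.forget _).map q) := hqd
    haveI : QuasiCompact ((Over.forget _).map q) := hqc
    haveI : Flat ((Over.forget _).map (fst Z A)) := flat_fst_left Z A
    haveI : Flat ((Over.forget _).map (snd Z Z)) := flat_snd_left Z Z
    haveI : IsSchemeTheoreticallyDominant (q ▷ A).left :=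
      IsSchemeTheoreticallyDominant.of_isPullback ((isPullback_whiskerRight q A).map (Over.forget _))
    haveI : IsSchemeTheoreticallyDominant (Z ◁ q).left :=
      IsSchemeTheoreticallyDominant.of_isPullback ((isPullback_whiskerLeft q Z).map (Over.forget _))
    infer_instance
  obtain ⟨m, hm⟩ := hlift (q ⊗ₘ q) ((i ⊗ₘ i) ≫ μ[G]) hqq ⟨μ[A] ≫ q, by
    rw [Category.assoc, hqi, MonoidalCategory.tensorHom_comp_tensorHom_assoc, hqi, IsMonHom.mul_hom]⟩
  obtain ⟨v, hv⟩ := hlift q (i ≫ ι[G]) hqd ⟨ι[A] ≫ q, by
    rw [Category.assoc, hqi, ← Category.assoc, hqi, GrpObj.inv_hom]⟩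
  have he : (η[A] ≫ q) ≫ i = η[G] := by rw [Category.assoc, hqi, IsMonHom.one_hom]
  letI : GrpObj Z := grpObjOfMono i (η[A] ≫ q) he m hm v hv
  haveI hi : IsMonHom i := ⟨he, hm⟩
  haveI hq : IsMonHom q := ⟨rfl, by
    rw [← cancel_mono i, Category.assoc, hqi, Category.assoc, show μ[Z] ≫ i = (i ⊗ₘ i) ≫ μ[G] from hm,
      MonoidalCategory.tensorHom_comp_tensorHom_assoc, hqi, IsMonHom.mul_hom]⟩
  refine ⟨Z, inferInstance, i, q, hi, hq, hci, hZp, ⟨?_⟩, hqs, hqd, hqc, hqi⟩
  intro L _ x W p₁ p₂ hW
  haveI : Flat x := inferInstance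
  haveI : Flat p₁ := MorphismProperty.of_isPullback (P := @Flat) hW.flip ‹Flat x›
  let r := pullback.snd q.left p₁
  have hA : IsPullback (pullback.fst q.left p₁) (r ≫ p₂) A.hom x := by
    have := (IsPullback.of_hasPullback q.left p₁).paste_vert hW
    rwa [Over.w] at this
  haveI : IsIntegral (pullback q.left p₁) := GeometricallyIntegral.geometrically_isIntegral x _ _ hA
  haveI : IsSchemeTheoreticallyDominant r :=
    IsSchemeTheoreticallyDominant.of_isPullback (IsPullback.of_hasPullback q.left p₁)
  haveI : Surjective r := MorphismProperty.pullback_snd _ _ hqs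
  haveI : QuasiCompact r := MorphismProperty.pullback_snd _ _ hqc
  haveI : IsReduced W := IsSchemeTheoreticallyDominant.isReduced r
  haveI : PreirreducibleSpace W := Function.Surjective.preirreducibleSpace r.continuous r.surjective
  haveI : IrreducibleSpace W := { toNonempty := ⟨r (Classical.arbitrary _)⟩ }
  exact (isIntegral_iff_irreducibleSpace_and_isReduced W).2 ⟨inferInstance, inferInstance⟩

end Groth.Agent.AbRigid
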