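import Groth.Agent.S0346
import Groth.Agent.Lib.AbRigid.Connected
import Groth.Agent.Lib.AbRigid.Image
import Groth.Agent.Lib.AbRigid.GrpTop
import Mathlib.RingTheory.Ideal.KrullsHeightTheorem
import Mathlib.AlgebraicGeometry.Stalk

/-!
# The largest abelian subgroup scheme of a commutative group scheme over a field
-/

open CategoryTheory Limits AlgebraicGeometry MonoidalCategory CartesianMonoidalCategory MonObj

namespace Groth.Agent.AbRigid

universe u

variable {K : Type u} [Field K]

/-- Group schemes over a field are separated. -/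
theorem isSeparated_of_grpObj (G : Over (Spec (CommRingCat.of K))) [GrpObj G] : IsSeparated G.hom :=
  (S0346.result _ G).1.2 (isClosedImmersion_of_comp_eq_id (Y := Spec (.of K)) G.hom η[G].left (by simp))

/-- The closed sets which are images of proper geometrically integral subgroups. -/
def IsAbelianImage (G : Over (Spec (CommRingCat.of K))) [GrpObj G] (s : Set G.left) : Prop :=
  ∃ (Z : Over (Spec (CommRingCat.of K))) (_ : GrpObj Z) (i : Z ⟶ G), IsMonHom i ∧ IsClosedImmersion i.left ∧
    IsProper Z.hom ∧ GeometricallyIntegral Z.hom ∧ Set.range i.left = s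

/-- Among irreducible closed sets through a point with Noetherian local ring some member of any nonempty
family is maximal. -/
theorem exists_maximal_of_irreducible {X : Scheme.{u}} (x : X) [IsNoetherianRing (X.presheaf.stalk x)]
    (S : Set (Set X)) (hS : S.Nonempty) (hc : ∀ s ∈ S, IsClosed s) (hi : ∀ s ∈ S, IsIrreducible s)
    (hx : ∀ s ∈ S, x ∈ s) : ∃ s, Maximal (· ∈ S) s := by
  have hgen : ∀ s ∈ S, ∃ p : Spec (X.presheaf.stalk x), closure {X.fromSpecStalk x p} = s := by
    intro s hs
    obtain ⟨y, hy⟩ := QuasiSober.sober (hi s hs) (hc s hs)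
    have hmem : y ∈ Set.range (X.fromSpecStalk x) := by
      rw [Scheme.range_fromSpecStalk]; exact hy.specializes (hx s hs)
    obtain ⟨p, hp⟩ := hmem
    exact ⟨p, by rw [hp]; exact hy⟩
  choose p hp using hgen
  obtain ⟨⟨s, hs⟩, hmin⟩ := (InvImage.wf (fun s : S => (PrimeSpectrum.asIdeal (p s.1 s.2)).height) wellFounded_lt).has_min
    Set.univ (let ⟨s, hs⟩ := hS; ⟨⟨s, hs⟩, trivial⟩)
  refine ⟨s, hs, fun t ht hst => ?_⟩
  have hsp : (p t ht) ⤳ (p s hs) := by
    rw [← (X.fromSpecStalk x).isEmbedding.specializes_iff]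
    have hgt : IsGenericPoint (X.fromSpecStalk x (p t ht)) t := hp t ht
    exact hgt.specializes (hst ((hp s hs).le (subset_closure (Set.mem_singleton _))))
  have hle : (p t ht).asIdeal ≤ (p s hs).asIdeal := (PrimeSpectrum.le_iff_specializes _ _).2 hsp
  rcases hle.eq_or_lt with h | h
  · have : p t ht = p s hs := PrimeSpectrum.ext h
    rw [← hp t ht, this, hp s hs]
  · exact absurd (Ideal.height_strict_mono_of_isPrime h) (hmin.2 ⟨t, ht⟩ trivial)

variable (G : Over (Spec (CommRingCat.of K))) [GrpObj G] [IsCommMonObj G] [LocallyOfFiniteType G.hom]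

set_option backward.isDefEq.respectTransparency false in
/-- A commutative group scheme has a largest proper geometrically integral subgroup. -/
theorem exists_maximal :
    ∃ (M : Over (Spec (CommRingCat.of K))) (_ : GrpObj M) (i : M ⟶ G), IsMonHom i ∧ IsClosedImmersion i.left ∧
      IsProper M.hom ∧ GeometricallyIntegral M.hom ∧
      ∀ (A : Over (Spec (CommRingCat.of K))) (_ : GrpObj A) (_ : IsProper A.hom) (_ : GeometricallyIntegral A.hom)
        (φ : A ⟶ G), IsMonHom φ → ∃ ψ : A ⟶ M, ψ ≫ i = φ := by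
  haveI : IsSeparated G.hom := isSeparated_of_grpObj G
  haveI : IsLocallyNoetherian G.left := LocallyOfFiniteType.isLocallyNoetherian G.hom
  let e := η[G].left (IsLocalRing.closedPoint K)
  have hne : ({s | IsAbelianImage G s}).Nonempty := by
    haveI hp : IsProper (𝟙_ (Over (Spec (CommRingCat.of K)))).hom := by dsimp; infer_instance
    haveI hg : GeometricallyIntegral (𝟙_ (Over (Spec (CommRingCat.of K)))).hom := by
      show GeometricallyIntegral (𝟙 (Spec (CommRingCat.of K)))
      refine ⟨fun L _ x W p₁ p₂ hW => ?_⟩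
      haveI : IsIso p₂ := hW.isIso_snd_of_isIso
      haveI : Nonempty W := ⟨(inv p₂) (IsLocalRing.closedPoint L)⟩
      exact isIntegral_of_isOpenImmersion p₂
    obtain ⟨Z, gZ, i, q, hi, hq, hci, hZp, hZi, -⟩ := exists_image (𝟙_ _) G η[G]
    exact ⟨_, Z, gZ, i, hi, hci, hZp, hZi, rfl⟩
  obtain ⟨s, ⟨M, gM, i, hi, hci, hMp, hMi, hs⟩, hmax⟩ := exists_maximal_of_irreducible e
    {s | IsAbelianImage G s} hne
    (by rintro _ ⟨Z, gZ, i, -, hci, -, -, rfl⟩; exact i.left.isClosedEmbedding.isClosed_range)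
    (by
      rintro _ ⟨Z, gZ, i, -, -, -, hZi, rfl⟩
      haveI : IsIntegral Z.left := GeometricallyIntegral.isIntegral_of_subsingleton Z.hom
      rw [← Set.image_univ]
      exact (IrreducibleSpace.isIrreducible_univ _).image _ i.left.continuous.continuousOn)
    (by
      rintro _ ⟨Z, gZ, i, hi, -, -, -, rfl⟩
      exact ⟨η[Z].left (IsLocalRing.closedPoint K), by rw [← left_comp_apply, IsMonHom.one_hom]⟩)
  refine ⟨M, gM, i, hi, hci, hMp, hMi, fun A _ _ _ φ hφ => ?_⟩
  haveI : IsProper (M ⊗ A).hom := by rw [Over.tensorObj_hom]; infer_instance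
  haveI : GeometricallyIntegral (M ⊗ A).hom := geometricallyIntegral_tensorObj M A
  obtain ⟨Z, gZ, i', q, hi', hq, hci', hZp, hZi, hqs, hqd, hqc, hqi⟩ :=
    exists_image (M ⊗ A) G ((i ⊗ₘ φ) ≫ μ[G])
  haveI : Mono i' := (Over.forget _).mono_of_mono_map (f := i') (show Mono i'.left from inferInstance)
  have h1 : (lift (𝟙 M) (1 : M ⟶ A) ≫ q) ≫ i' = i := by
    rw [Category.assoc, hqi, lift_map_assoc, ← Hom.mul_def, Category.id_comp, MonObj.one_comp, _root_.mul_one]
  have h2 : (lift (1 : A ⟶ M) (𝟙 A) ≫ q) ≫ i' = φ := by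
    rw [Category.assoc, hqi, lift_map_assoc, ← Hom.mul_def, Category.id_comp, MonObj.one_comp, _root_.one_mul]
  set j := lift (𝟙 M) (1 : M ⟶ A) ≫ q
  have hsub : s ⊆ Set.range i'.left := by
    rw [← hs, ← h1]
    rintro _ ⟨m, rfl⟩
    exact ⟨j.left m, (left_comp_apply j i' m).symm⟩
  have heq : Set.range i'.left ⊆ s := hmax ⟨Z, gZ, i', hi', hci', hZp, hZi, rfl⟩ hsub
  haveI : IsClosedImmersion (j.left ≫ i'.left) := by rw [← Over.comp_left, h1]; exact hci
  haveI : IsClosedImmersion j.left := .of_comp _ i'.left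
  haveI : Surjective j.left := ⟨fun z => by
    obtain ⟨m, hm⟩ := hs.ge (heq ⟨z, rfl⟩)
    refine ⟨m, i'.left.isClosedEmbedding.injective ?_⟩
    rw [← left_comp_apply, h1, hm]⟩
  haveI : IsIntegral Z.left := GeometricallyIntegral.isIntegral_of_subsingleton Z.hom
  haveI : IsIso j.left := isIso_of_isClosedImmersion_of_surjective j.left
  haveI : IsIso ((Over.forget _).map j) := ‹IsIso j.left›
  haveI : IsIso j := isIso_of_reflects_iso j (Over.forget _)
  refine ⟨(lift (1 : A ⟶ M) (𝟙 A) ≫ q) ≫ inv j, ?_⟩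
  rw [Category.assoc, ← (IsIso.eq_inv_comp j).2 h1, h2]

end Groth.Agent.AbRigid
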