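import Groth.Agent.Lib.AbRigid.Basic

/-!
# Consequences of rigidity: splitting of morphisms from a product into a group, homomorphisms
-/

open CategoryTheory Limits AlgebraicGeometry MonoidalCategory CartesianMonoidalCategory MonObj

namespace Groth.Agent.AbRigid

universe u

variable {K : Type u} [Field K]

theorem toUnit_comp_eq {A B : Over (Spec (CommRingCat.of K))} (u : A ⟶ B)
    (c : 𝟙_ (Over (Spec (CommRingCat.of K))) ⟶ A) :
    (toUnit A ≫ c) ≫ u = toUnit A ≫ c ≫ u := Category.assoc _ _ _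

/-- A morphism contracting both axes is constant. -/
theorem eq_const_of_axes (X Y Z : Over (Spec (CommRingCat.of K)))
    [IsProper X.hom] [GeometricallyIntegral X.hom]
    [LocallyOfFiniteType Y.hom] [GeometricallyIntegral Y.hom]
    [IsSeparated Z.hom] (f : X ⊗ Y ⟶ Z)
    (x₀ : 𝟙_ (Over (Spec (CommRingCat.of K))) ⟶ X) (y₀ : 𝟙_ (Over (Spec (CommRingCat.of K))) ⟶ Y)
    (z₀ : 𝟙_ (Over (Spec (CommRingCat.of K))) ⟶ Z)
    (hX : lift (𝟙 X) (toUnit X ≫ y₀) ≫ f = toUnit X ≫ z₀)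
    (hY : lift (toUnit Y ≫ x₀) (𝟙 Y) ≫ f = toUnit Y ≫ z₀) :
    f = toUnit (X ⊗ Y) ≫ z₀ := by
  rw [rigidity X Y Z f x₀ y₀ z₀ hX, hY, ← Category.assoc, comp_toUnit]

/-- A morphism from a product into a separated group, normalised at the base point, is the product of
its restrictions to the axes. -/
theorem eq_mul_of_axes (X Y A : Over (Spec (CommRingCat.of K)))
    [IsProper X.hom] [GeometricallyIntegral X.hom]
    [LocallyOfFiniteType Y.hom] [GeometricallyIntegral Y.hom]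
    [GrpObj A] [IsSeparated A.hom] (h : X ⊗ Y ⟶ A)
    (x₀ : 𝟙_ (Over (Spec (CommRingCat.of K))) ⟶ X) (y₀ : 𝟙_ (Over (Spec (CommRingCat.of K))) ⟶ Y)
    (h0 : lift x₀ y₀ ≫ h = η[A]) :
    h = (fst X Y ≫ lift (𝟙 X) (toUnit X ≫ y₀) ≫ h) * (snd X Y ≫ lift (toUnit Y ≫ x₀) (𝟙 Y) ≫ h) := by
  set p : X ⟶ A := lift (𝟙 X) (toUnit X ≫ y₀) ≫ h with hp
  set q : Y ⟶ A := lift (toUnit Y ≫ x₀) (𝟙 Y) ≫ h with hq
  have h0' : lift x₀ y₀ ≫ h = 1 := by rw [h0, one_eq_one]
  have ex : x₀ ≫ p = 1 := by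
    rw [hp, ← Category.assoc, comp_lift, Category.comp_id, ← Category.assoc, toUnit_unique (x₀ ≫ toUnit X) (𝟙 _),
      Category.id_comp, h0']
  have ey : y₀ ≫ q = 1 := by
    rw [hq, ← Category.assoc, comp_lift, Category.comp_id, ← Category.assoc, toUnit_unique (y₀ ≫ toUnit Y) (𝟙 _),
      Category.id_comp, h0']
  have e := eq_const_of_axes X Y A ((fst X Y ≫ p)⁻¹ * h * (snd X Y ≫ q)⁻¹) x₀ y₀ η[A] ?_ ?_
  · rw [one_eq_one, comp_one] at e
    calc h = (fst X Y ≫ p) * ((fst X Y ≫ p)⁻¹ * h * (snd X Y ≫ q)⁻¹) * (snd X Y ≫ q) := by group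
      _ = _ := by rw [e, _root_.mul_one]
  · simp only [comp_mul, GrpObj.comp_inv, lift_fst_assoc, lift_snd_assoc, Category.id_comp, ← hp,
      Category.assoc, ey, one_eq_one, comp_one, inv_one, _root_.mul_one, inv_mul_cancel]
  · simp only [comp_mul, GrpObj.comp_inv, lift_fst_assoc, lift_snd_assoc, Category.id_comp, ← hq,
      Category.assoc, ex, one_eq_one, comp_one, inv_one, _root_.one_mul, mul_inv_cancel]

/-- The restrictions to the axes of a product of normalised morphisms. -/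
theorem axes_of_eq_mul (X Y A : Over (Spec (CommRingCat.of K))) [GrpObj A]
    (x₀ : 𝟙_ (Over (Spec (CommRingCat.of K))) ⟶ X) (y₀ : 𝟙_ (Over (Spec (CommRingCat.of K))) ⟶ Y)
    (f' : X ⟶ A) (g' : Y ⟶ A) (hf : x₀ ≫ f' = η[A]) (hg : y₀ ≫ g' = η[A]) (h : X ⊗ Y ⟶ A)
    (e : h = (fst X Y ≫ f') * (snd X Y ≫ g')) :
    f' = lift (𝟙 X) (toUnit X ≫ y₀) ≫ h ∧ g' = lift (toUnit Y ≫ x₀) (𝟙 Y) ≫ h := by
  constructor
  · rw [e, comp_mul, lift_fst_assoc, lift_snd_assoc, Category.assoc, hg, Category.id_comp, one_eq_one,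
      comp_one, _root_.mul_one]
  · rw [e, comp_mul, lift_fst_assoc, lift_snd_assoc, Category.assoc, hf, Category.id_comp, one_eq_one,
      comp_one, _root_.one_mul]

/-- A morphism from a proper geometrically integral group to a separated group preserving the unit
is a homomorphism. -/
theorem isMonHom_of_one (A B : Over (Spec (CommRingCat.of K)))
    [GrpObj A] [IsProper A.hom] [GeometricallyIntegral A.hom] [GrpObj B] [IsSeparated B.hom]
    (f : A ⟶ B) (hf : η[A] ≫ f = η[B]) : IsMonHom f := by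
  refine ⟨hf, ?_⟩
  have h := eq_mul_of_axes A A B (μ[A] ≫ f) η[A] η[A] (by
    rw [← Category.assoc, show lift η[A] η[A] ≫ μ[A] = η[A] from by
      rw [← Hom.mul_def, one_eq_one, _root_.mul_one], hf])
  rw [h]
  have e1 : lift (𝟙 A) (toUnit A ≫ η[A]) ≫ μ[A] ≫ f = f := by
    rw [← Category.assoc, lift_comp_one_right, Category.id_comp]
  have e2 : lift (toUnit A ≫ η[A]) (𝟙 A) ≫ μ[A] ≫ f = f := by
    rw [← Category.assoc, lift_comp_one_left, Category.id_comp]
  rw [e1, e2, Hom.mul_def, lift_fst_comp_snd_comp]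

end Groth.Agent.AbRigid
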