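import Groth.Agent.Lib.AbRigid.Connected
import Groth.Agent.Lib.SmoothRed.Basic
import Mathlib.AlgebraicGeometry.Morphisms.Smooth
import Mathlib.AlgebraicGeometry.Geometrically.Reduced
import Mathlib.AlgebraicGeometry.Geometrically.Connected

/-!
# Smooth connected group schemes over a field are geometrically integral
-/

open CategoryTheory Limits AlgebraicGeometry

namespace Groth.Agent.AbRigid

universe u

variable {K : Type u} [Field K]

/-- A scheme smooth over a field is reduced. -/
theorem isReduced_of_smooth_over_field {X : Scheme.{u}} (f : X ⟶ Spec (CommRingCat.of K)) [Smooth f] :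
    IsReduced X := by
  refine @IsReduced.of_openCover X X.affineOpenCover.openCover (fun i => ?_)
  show IsReduced (Spec (X.affineOpenCover.X i))
  have h : Smooth (X.affineOpenCover.f i ≫ f) := inferInstance
  rw [← Spec.map_preimage (X.affineOpenCover.f i ≫ f), HasRingHomProperty.Spec_iff (P := @Smooth)] at h
  algebraize [(Spec.preimage (X.affineOpenCover.f i ≫ f)).hom]
  haveI : _root_.IsReduced (X.affineOpenCover.X i) := SmoothRed.isReduced_of_smooth_field K _
  infer_instance

/-- Smooth morphisms have geometrically reduced fibres. -/
theorem geometricallyReduced_of_smooth {X S : Scheme.{u}} (f : X ⟶ S) [Smooth f] : GeometricallyReduced f := by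
  refine ⟨fun L _ x W p₁ p₂ hW => ?_⟩
  haveI : Smooth p₂ := MorphismProperty.of_isPullback hW ‹Smooth f›
  exact isReduced_of_smooth_over_field p₂

/-- A smooth geometrically connected group scheme over a field is geometrically integral. -/
theorem geometricallyIntegral_of_smooth (G : Over (Spec (CommRingCat.of K))) [GrpObj G]
    [Smooth G.hom] [GeometricallyConnected G.hom] : GeometricallyIntegral G.hom := by
  haveI := geometricallyReduced_of_smooth G.hom
  haveI : ConnectedSpace G.left := GeometricallyConnected.geometrically_connectedSpace (f := G.hom)
    (𝟙 _) (𝟙 G.left) G.hom (IsPullback.of_horiz_isIso ⟨by simp⟩)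
  exact geometricallyIntegral_of_connected G

end Groth.Agent.AbRigid
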