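import Groth.Agent.Lib.AbRigid.Shear
import Groth.Agent.Lib.AbRigid.GrpTop
import Groth.Agent.Lib.AbRigid.Maximal
import Groth.Agent.Lib.H12.FlatComp
import Groth.Agent.Lib.VarDim.Scheme
import Groth.Agent.Lib.VarDim.Fibre
import Mathlib.AlgebraicGeometry.ZariskisMainTheorem
import Mathlib.AlgebraicGeometry.Morphisms.QuasiFinite

/-!
# Homomorphisms of group schemes over a field: flatness from one point, finiteness from the dimension
-/

open CategoryTheory Limits AlgebraicGeometry MonoidalCategory CartesianMonoidalCategory MonObj GrpObj

namespace Groth.Agent.AbRigid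

universe u

variable {K : Type u} [Field K]

theorem flat_fromSpecStalk {X : Scheme.{u}} (x : X) : Flat (X.fromSpecStalk x) := by
  obtain ⟨U, hU, hxU, -⟩ := exists_isAffineOpen_mem_and_subset (X := X) (x := x) (U := ⊤) trivial
  rw [← hU.fromSpecStalk_eq_fromSpecStalk hxU, IsAffineOpen.fromSpecStalk]
  haveI : Flat (Spec.map (X.presheaf.germ U x hxU)) := by
    rw [HasRingHomProperty.Spec_iff (P := @Flat)]
    letI := X.presheaf.algebra_section_stalk (⟨x, hxU⟩ : U)
    haveI := hU.isLocalization_stalk ⟨x, hxU⟩
    exact IsLocalization.flat (X.presheaf.stalk x) (hU.primeIdealOf ⟨x, hxU⟩).asIdeal.primeCompl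
  infer_instance

set_option backward.isDefEq.respectTransparency false in
/-- A homomorphism which is flat at one point is flat. -/
theorem flat_of_flat_stalkMap (G H : Over (Spec (CommRingCat.of K))) [GrpObj G] [GrpObj H]
    (f : G ⟶ H) [IsMonHom f] (ξ : G.left) (hξ : (f.left.stalkMap ξ).hom.Flat) : Flat f.left := by
  let U : Over (Spec (CommRingCat.of K)) := Over.mk (G.left.fromSpecStalk ξ ≫ G.hom)
  let j : U ⟶ G := Over.homMk (G.left.fromSpecStalk ξ) rfl
  haveI hj : Flat j.left := flat_fromSpecStalk ξ
  haveI : Flat ((Over.forget _).map j) := hj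
  haveI hjf : Flat (j ≫ f).left := by
    rw [Over.comp_left]
    show Flat (G.left.fromSpecStalk ξ ≫ f.left)
    rw [← Scheme.SpecMap_stalkMap_fromSpecStalk]
    haveI : Flat (Spec.map (f.left.stalkMap ξ)) := by
      rw [HasRingHomProperty.Spec_iff (P := @Flat)]; exact hξ
    haveI := flat_fromSpecStalk (f.left ξ)
    infer_instance
  haveI hjG : Flat (j ▷ G).left :=
    MorphismProperty.of_isPullback (P := @Flat) ((isPullback_whiskerRight j G).map (Over.forget _)) hj
  haveI hjH : Flat ((j ≫ f) ▷ G).left :=
    MorphismProperty.of_isPullback (P := @Flat) ((isPullback_whiskerRight (j ≫ f) G).map (Over.forget _)) hjf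
  haveI : Flat (shearR G).hom.left := by
    haveI : IsIso (shearR G).hom.left := inferInstanceAs (IsIso ((Over.forget _).map (shearR G).hom))
    infer_instance
  have hψ : (j ▷ G) ≫ μ[G] = (j ▷ G) ≫ (shearR G).hom ≫ fst G G := by
    simp only [shearR, lift_fst, Hom.mul_def, lift_fst_snd, Category.id_comp]
  haveI : Flat (fst G G).left := flat_fst_left G G
  haveI : Flat ((j ▷ G) ≫ μ[G]).left := by
    rw [hψ, Over.comp_left, Over.comp_left]; infer_instance
  haveI : Surjective ((j ▷ G) ≫ μ[G]).left := ⟨fun x => by
    obtain ⟨r, hr1, hr2⟩ := exists_point G G ξ x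
    set t := lift (fst G G) ((fst G G)⁻¹ * snd G G)
    have ht : t.left r ∈ Set.range (j ▷ G).left := by
      have hr : (fst G G).left (t.left r) ∈ Set.range j.left := by
        rw [← left_comp_apply, lift_fst, hr1]
        exact ⟨IsLocalRing.closedPoint _, Scheme.fromSpecStalk_closedPoint⟩
      obtain ⟨u, hu⟩ := hr
      obtain ⟨w, -, hw⟩ := Scheme.exists_preimage_of_isPullback
        ((isPullback_whiskerRight j G).map (Over.forget _)) u (t.left r) hu
      exact ⟨w, hw⟩
    obtain ⟨w, hw⟩ := ht
    refine ⟨w, ?_⟩
    rw [left_comp_apply, hw, ← left_comp_apply, ← Hom.mul_def, mul_inv_cancel_left]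
    exact hr2⟩
  let σ : H ⊗ G ≅ H ⊗ G :=
    { hom := lift (fst H G * (snd H G ≫ f)) (snd H G)
      inv := lift (fst H G * (snd H G ≫ f)⁻¹) (snd H G)
      hom_inv_id := by
        apply CartesianMonoidalCategory.hom_ext <;> simp [comp_mul, GrpObj.comp_inv]
      inv_hom_id := by
        apply CartesianMonoidalCategory.hom_ext <;> simp [comp_mul, GrpObj.comp_inv] }
  have hφ : ((j ▷ G) ≫ μ[G]) ≫ f = ((j ≫ f) ▷ G) ≫ σ.hom ≫ fst H G := by
    have aux : H ◁ f ≫ μ[H] = fst H G * (snd H G ≫ f) := by
      rw [Hom.mul_def]
      congr 1
      try (apply CartesianMonoidalCategory.hom_ext <;> simp)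
    simp only [σ, lift_fst, Category.assoc, IsMonHom.mul_hom, MonoidalCategory.tensorHom_def, aux,
      MonoidalCategory.comp_whiskerRight]
  haveI : Flat σ.hom.left := by
    haveI := σ.isIso_hom
    haveI : IsIso σ.hom.left := Functor.map_isIso (Over.forget (Spec (CommRingCat.of K))) σ.hom
    infer_instance
  haveI : Flat (fst H G).left := flat_fst_left H G
  haveI : Flat (((j ▷ G) ≫ μ[G]).left ≫ f.left) := by
    rw [← Over.comp_left, hφ, Over.comp_left, Over.comp_left]; infer_instance
  exact H12.flat_of_comp_of_surjective ((j ▷ G) ≫ μ[G]).left f.left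

/-- A surjective homomorphism onto an integral group scheme is flat. -/
theorem flat_of_surjective (G H : Over (Spec (CommRingCat.of K))) [GrpObj G] [GrpObj H]
    [IsIntegral H.left] (f : G ⟶ H) [IsMonHom f] [Surjective f.left] : Flat f.left := by
  obtain ⟨ξ, hξ⟩ := f.left.surjective (genericPoint H.left)
  refine flat_of_flat_stalkMap G H f ξ ?_
  have hF : IsField (H.left.presheaf.stalk (f.left ξ)) := by
    rw [hξ]; exact Field.toIsField H.left.functionField
  letI : Field (H.left.presheaf.stalk (f.left ξ)) := hF.toField
  algebraize [(f.left.stalkMap ξ).hom]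
  exact (inferInstance : Module.Flat (H.left.presheaf.stalk (f.left ξ)) (G.left.presheaf.stalk ξ))

open VarDim in
set_option backward.isDefEq.respectTransparency false in
/-- A surjective homomorphism between proper integral groups of the same dimension is finite. -/
theorem isFinite_of_surjective (G H : Over (Spec (CommRingCat.of K))) [GrpObj G] [GrpObj H]
    [IsProper G.hom] [IsProper H.hom] [IsIntegral G.left] [IsIntegral H.left]
    (f : G ⟶ H) [IsMonHom f] [Surjective f.left]
    (hdim : topologicalKrullDim G.left = topologicalKrullDim H.left) : IsFinite f.left := by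
  haveI : IsProper (f.left ≫ H.hom) := by rw [Over.w]; infer_instance
  haveI : IsProper f.left := .of_comp _ H.hom
  have hd : sdim G.hom (genericPoint G.left) = sdim H.hom (genericPoint H.left) := by
    have h := (dim_eq_sdim_genericPoint G.hom).symm.trans (hdim.trans (dim_eq_sdim_genericPoint H.hom))
    exact_mod_cast h
  -- the fibre over the generic point is a single point
  have hfib : ∀ x, f.left x = genericPoint H.left → x = genericPoint G.left := by
    intro x hx
    by_contra hne
    have hlt := sdim_lt_of_specializes G.hom ((genericPoint_spec G.left).specializes (Set.mem_univ x)) (Ne.symm hne)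
    have hle := sdim_le_comp H.hom f.left x
    rw [hx, Over.w] at hle
    omega
  let F := f.left.fiber (genericPoint H.left)
  let p := f.left.fiberToSpecResidueField (genericPoint H.left)
  haveI : Finite ↥F := by
    have : (f.left ⁻¹' {genericPoint H.left}).Finite :=
      (Set.finite_singleton (genericPoint G.left)).subset fun x hx => hfib x hx
    have h2 : (Set.univ : Set ↥F).Finite := by
      refine Set.Finite.of_finite_image (f := f.left.fiberι (genericPoint H.left)) ?_
        (f.left.fiberι _).isEmbedding.injective.injOn
      rw [Set.image_univ, Scheme.Hom.range_fiberι]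
      exact this
    exact Set.finite_univ_iff.1 h2
  haveI : LocallyOfFiniteType p := MorphismProperty.pullback_snd _ _ (inferInstance : LocallyOfFiniteType f.left)
  haveI : QuasiCompact p := MorphismProperty.pullback_snd _ _ (inferInstance : QuasiCompact f.left)
  haveI : LocallyQuasiFinite p := LocallyQuasiFinite.of_finite_preimage_singleton _ fun _ => Set.toFinite _
  -- the kernel has finitely many points
  let N : Over (Spec (CommRingCat.of K)) := Over.mk (pullback.fst f.left η[H].left ≫ G.hom)
  let i : N ⟶ G := Over.homMk (pullback.fst f.left η[H].left) rfl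
  have hi : i ≫ f = 1 := by
    ext1
    rw [Hom.one_def, Over.comp_left, Over.comp_left, Over.toUnit_left]
    show pullback.fst f.left η[H].left ≫ f.left = (pullback.fst f.left η[H].left ≫ G.hom) ≫ η[H].left
    rw [Category.assoc, ← Over.w f, Category.assoc, pullback.condition_assoc, reassoc_of% (Over.w η[H])]
    show _ = pullback.snd _ _ ≫ _
    rw [pullback.condition]
    congr 1
  let g := f.left.stalkMap (genericPoint G.left)
  have hN : Finite ↥N.left := by
    let Φ : G ⊗ N ⟶ G := fst G N * (snd G N ≫ i)
    have hΦ : Φ ≫ f = fst G N ≫ f := by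
      rw [MonObj.mul_comp, Category.assoc, hi, MonObj.comp_one, _root_.mul_one]
    -- the generic fibre of the first projection
    let Q : Set (G ⊗ N).left := (fst G N).left ⁻¹' {genericPoint G.left}
    suffices hQ : Q.Finite by
      have : (Set.univ : Set N.left) ⊆ (snd G N).left '' Q := fun n _ => by
        obtain ⟨q, hq1, hq2⟩ := exists_point G N (genericPoint G.left) n
        exact ⟨q, hq1, hq2⟩
      exact Set.finite_univ_iff.1 ((hQ.image _).subset this)
    -- it embeds in the product of two copies of the generic fibre
    let Ψ : (G ⊗ N).left ⟶ pullback f.left f.left :=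
      pullback.lift (fst G N).left Φ.left (by rw [← Over.comp_left, ← Over.comp_left, hΦ])
    have hΨ : Function.Injective Ψ := by
      let Θ : (G ⊗ N).left ⟶ (G ⊗ G).left := (G ◁ i).left
      let c : pullback f.left f.left ⟶ (G ⊗ G).left :=
        pullback.lift (pullback.fst f.left f.left) (pullback.snd f.left f.left) (by
          rw [← Over.w f, pullback.condition_assoc])
      let s := lift (fst G G) (fst G G * snd G G)
      haveI : IsIso s := ⟨lift (fst G G) ((fst G G)⁻¹ * snd G G),
        by apply CartesianMonoidalCategory.hom_ext <;> simp [s, comp_mul, GrpObj.comp_inv],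
        by apply CartesianMonoidalCategory.hom_ext <;> simp [s, comp_mul, GrpObj.comp_inv]⟩
      have hΘ : Function.Injective Θ := by
        haveI : IsPreimmersion i.left := MorphismProperty.pullback_fst (P := @IsPreimmersion) _ _ (by
          haveI := isClosedImmersion_of_comp_eq_id (Y := Spec (.of K)) H.hom η[H].left (by simp)
          infer_instance)
        haveI : IsPreimmersion Θ :=
          MorphismProperty.of_isPullback (P := @IsPreimmersion) ((isPullback_whiskerLeft i G).map (Over.forget _))
            ‹IsPreimmersion i.left›
        exact Θ.isEmbedding.injective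
      have hfac : Ψ ≫ c = Θ ≫ s.left := by
        apply pullback.hom_ext
        · rw [Category.assoc, pullback.lift_fst, pullback.lift_fst, Category.assoc]
          show _ = Θ ≫ (s ≫ fst G G).left
          rw [lift_fst, ← Over.comp_left, whiskerLeft_fst]
        · rw [Category.assoc, pullback.lift_snd, pullback.lift_snd, Category.assoc]
          show _ = Θ ≫ (s ≫ snd G G).left
          rw [lift_snd, ← Over.comp_left, MonObj.comp_mul, whiskerLeft_fst,
            whiskerLeft_snd]
      intro a b hab
      apply hΘ
      haveI : IsIso s.left := inferInstanceAs (IsIso ((Over.forget _).map s))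
      apply s.left.homeomorph.injective
      show s.left (Θ a) = s.left (Θ b)
      rw [← Scheme.Hom.comp_apply, ← Scheme.Hom.comp_apply, ← hfac, Scheme.Hom.comp_apply,
        Scheme.Hom.comp_apply, hab]
    refine Set.Finite.of_finite_image (f := Ψ) (Set.Finite.subset (s := (pullback.fst f.left f.left) ⁻¹' {genericPoint G.left}) ?_ ?_) hΨ.injOn
    · -- the fibre of the projection over the generic point
      let F₂ := (pullback.fst f.left f.left).fiber (genericPoint G.left)
      have hη : f.left (genericPoint G.left) = genericPoint H.left := by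
        obtain ⟨ξ, hξ⟩ := f.left.surjective (genericPoint H.left)
        rw [← hfib ξ hξ, hξ]
      haveI : LocallyQuasiFinite ((pullback.fst f.left f.left).fiberToSpecResidueField (genericPoint G.left)) := by
        have h1 : LocallyQuasiFinite (f.left.fiberToSpecResidueField (f.left (genericPoint G.left))) := by
          rw [hη]; infer_instance
        exact MorphismProperty.of_isPullback (P := @LocallyQuasiFinite)
          (isPullback_fiberToSpecResidueField_of_isPullback (IsPullback.of_hasPullback f.left f.left).flip
            (genericPoint G.left)) h1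
      haveI : QuasiCompact ((pullback.fst f.left f.left).fiberToSpecResidueField (genericPoint G.left)) :=
        MorphismProperty.pullback_snd _ _ (inferInstance : QuasiCompact (pullback.fst f.left f.left))
      have hfin : (Set.univ : Set ↥F₂).Finite := by
        have := Scheme.Hom.finite_preimage_singleton
          ((pullback.fst f.left f.left).fiberToSpecResidueField (genericPoint G.left)) (IsLocalRing.closedPoint _)
        convert! this using 1
        exact Set.eq_univ_of_forall (fun z => Subsingleton.elim _ _) |>.symm
      rw [← Scheme.Hom.range_fiberι, ← Set.image_univ]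
      exact hfin.image _
    · rintro _ ⟨q, hq, rfl⟩
      show (pullback.fst f.left f.left) (Ψ q) = genericPoint G.left
      rw [← Scheme.Hom.comp_apply, pullback.lift_fst]
      exact hq
  -- every fibre is finite
  haveI : LocallyQuasiFinite f.left := LocallyQuasiFinite.of_finite_preimage_singleton _ fun y => by
    by_contra hinf
    obtain ⟨x, hx⟩ := Set.Infinite.nonempty hinf
    apply hinf
    haveI : QuasiCompact N.hom := by dsimp [N]; infer_instance
    haveI : LocallyOfFiniteType N.hom := by dsimp [N]; infer_instance
    haveI : LocallyQuasiFinite N.hom := LocallyQuasiFinite.of_finite_preimage_singleton _ fun _ => Set.toFinite _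
    haveI : LocallyQuasiFinite (fst G N).left := by dsimp; exact MorphismProperty.pullback_fst _ _ ‹LocallyQuasiFinite N.hom›
    haveI : QuasiCompact (fst G N).left := by dsimp; infer_instance
    let Φ : G ⊗ N ⟶ G := fst G N * (snd G N ≫ i)
    refine (((fst G N).left.finite_preimage_singleton x).image Φ.left).subset fun x' hx' => ?_
    -- `x'` is a translate of `x` by a point of the kernel
    obtain ⟨q, hq1, hq2⟩ := Scheme.Pullback.exists_preimage_pullback (f := f.left) (g := f.left) x x'
      ((hx : f.left x = y).trans (hx' : f.left x' = y).symm)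
    let P : Over (Spec (CommRingCat.of K)) := Over.mk (pullback.fst f.left f.left ≫ G.hom)
    let a : P ⟶ G := Over.homMk (pullback.fst f.left f.left) rfl
    let b : P ⟶ G := Over.homMk (pullback.snd f.left f.left) (by
      show _ ≫ G.hom = _ ≫ G.hom
      rw [← Over.w f, pullback.condition_assoc])
    have hab : (a⁻¹ * b) ≫ f = 1 := by
      rw [MonObj.mul_comp, GrpObj.inv_comp]
      have : a ≫ f = b ≫ f := by ext1; exact pullback.condition
      rw [this, inv_mul_cancel]
    let n : P ⟶ N := Over.homMk (pullback.lift (a⁻¹ * b).left P.hom (by
      rw [← Over.comp_left, hab, Hom.one_def, Over.comp_left, Over.toUnit_left])) (by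
        show _ ≫ pullback.fst f.left η[H].left ≫ G.hom = _
        rw [pullback.lift_fst_assoc, Over.w])
    have hn : n ≫ i = a⁻¹ * b := by ext1; exact pullback.lift_fst _ _ _
    refine ⟨(lift a n).left q, ?_, ?_⟩
    · show (fst G N).left _ = x
      rw [← left_comp_apply, lift_fst]; exact hq1
    · rw [← left_comp_apply, MonObj.comp_mul, lift_fst, lift_snd_assoc, hn, mul_inv_cancel_left]
      exact hq2
  exact IsFinite.of_isProper_of_locallyQuasiFinite f.left

open VarDim in
/-- A finite morphism of schemes over a field into an irreducible scheme of the same dimension is surjective. -/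
theorem surjective_of_isFinite (A B : Over (Spec (CommRingCat.of K))) [LocallyOfFiniteType B.hom]
    [IrreducibleSpace A.left] [IrreducibleSpace B.left] (f : A ⟶ B) [IsFinite f.left]
    (hdim : topologicalKrullDim A.left = topologicalKrullDim B.left) : Surjective f.left := by
  haveI : LocallyOfFiniteType (f.left ≫ B.hom) := inferInstance
  haveI : LocallyOfFiniteType A.hom := by rw [← Over.w f]; infer_instance
  refine ⟨fun y => ?_⟩
  have hcl := f.left.isClosedMap.isClosed_range
  have hg : f.left (genericPoint A.left) = genericPoint B.left := by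
    by_contra hne
    have h1 := sdim_lt_of_specializes B.hom
      ((genericPoint_spec B.left).specializes (Set.mem_univ (f.left (genericPoint A.left)))) (Ne.symm hne)
    have h2 := (dim_eq_sdim_genericPoint A.hom).symm.trans (hdim.trans (dim_eq_sdim_genericPoint B.hom))
    have hfib : topologicalKrullDim (f.left ⁻¹' {f.left (genericPoint A.left)} : Set A.left) ≤ ((0 : ℕ) : WithBot ℕ∞) := by
      haveI : DiscreteTopology ↥(f.left ⁻¹' {f.left (genericPoint A.left)}) :=
        (f.left.isDiscrete_preimage_singleton _).to_subtype
      simpa using topologicalKrullDim_zero_of_discreteTopology ↥(f.left ⁻¹' {f.left (genericPoint A.left)})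
    have h3 := (dim_preimage_singleton_le_iff B.hom f.left _ 0).1 hfib (genericPoint A.left) rfl
    rw [Over.w] at h3
    have h2' : sdim A.hom (genericPoint A.left) = sdim B.hom (genericPoint B.left) := by exact_mod_cast h2
    omega
  exact ((genericPoint_spec B.left).specializes (Set.mem_univ y)).mem_closed hcl ⟨_, hg⟩

end Groth.Agent.AbRigid
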