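import Groth.Prelude.Def_AlgGrp
import Mathlib.AlgebraicGeometry.Morphisms.LocalFlatDescent
import Mathlib.AlgebraicGeometry.Morphisms.Finite
import Mathlib.AlgebraicGeometry.Morphisms.QuasiFinite
import Mathlib.CategoryTheory.Monoidal.Cartesian.Grp

/-!
# The kernel pair of a homomorphism is the product with the kernel
-/

open CategoryTheory Limits AlgebraicGeometry MonoidalCategory CartesianMonoidalCategory MonObj

set_option linter.style.haveILetI false

namespace Groth.Agent.AbRigid

universe v u

theorem isPullback_kernelPair {C : Type*} [Category C] [CartesianMonoidalCategory C] {X Y N : C}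
    [GrpObj X] [GrpObj Y] (f : X ⟶ Y) [IsMonHom f] (i : N ⟶ X) (hN : IsPullback i (toUnit N) f η[Y]) :
    IsPullback (fst X N) (fst X N * (snd X N ≫ i)) f f := by
  have hi : i ≫ f = 1 := by rw [hN.w, Hom.one_def]
  refine IsPullback.of_isLimit' ⟨?_⟩ (PullbackCone.IsLimit.mk _
    (fun s => lift s.fst (hN.lift (s.fst⁻¹ * s.snd) (toUnit _) ?_)) ?_ ?_ ?_)
  · rw [mul_comp, Category.assoc, hi, MonObj.comp_one]; exact (_root_.mul_one _).symm
  · have hc := s.condition
    rw [mul_comp, GrpObj.inv_comp, hc, inv_mul_cancel, Hom.one_def]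
  · intro s; exact lift_fst _ _
  · intro s
    rw [comp_mul, lift_fst, ← Category.assoc, lift_snd, IsPullback.lift_fst, mul_inv_cancel_left]
  · intro s m h1 h2
    apply CartesianMonoidalCategory.hom_ext
    · rw [lift_fst]; exact h1
    · rw [lift_snd]
      apply hN.hom_ext
      · rw [IsPullback.lift_fst, Category.assoc]
        rw [comp_mul, h1] at h2
        rw [← h2, inv_mul_cancel_left]
      · exact toUnit_unique _ _

variable {k : Type u} [Field k] {X Y N : Over (Spec (CommRingCat.of k))} [GrpObj X] [GrpObj Y]
  (f : X ⟶ Y) [IsMonHom f] (i : N ⟶ X) (hN : AlgGrp.IsKernel i f)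
include hN

/-- A property stable under base change and descending along fppf maps holds for a flat surjective
homomorphism as soon as it holds for its kernel. -/
theorem of_kernel (P : MorphismProperty Scheme.{u}) [P.IsStableUnderBaseChange]
    [P.DescendsAlong (@Surjective ⊓ @Flat ⊓ @QuasiCompact)]
    [Flat f.left] [Surjective f.left] [QuasiCompact f.left] (h : P N.hom) : P f.left := by
  have hp := ((isPullback_kernelPair f i hN).map (Over.forget _))
  refine MorphismProperty.of_isPullback_of_descendsAlong
    (Q := @Surjective ⊓ @Flat ⊓ @QuasiCompact) hp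
    ⟨⟨‹Surjective f.left›, ‹Flat f.left›⟩, ‹QuasiCompact f.left›⟩ ?_
  show P (fst X N).left
  exact MorphismProperty.pullback_fst X.hom N.hom h

theorem kernel_of (P : MorphismProperty Scheme.{u}) [P.IsStableUnderBaseChange] (h : P f.left) : P N.hom := by
  have hp := MorphismProperty.of_isPullback (P := P) (hN.map (Over.forget _)) h
  exact hp

theorem universallyInjective_of_connected [IsFinite f.left] [ConnectedSpace N.left] :
    UniversallyInjective N.hom := by
  haveI hfin : IsFinite N.hom := kernel_of f i hN @IsFinite inferInstance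
  haveI : JacobsonSpace N.left := LocallyOfFiniteType.jacobsonSpace (Y := Spec _) N.hom
  haveI : Finite N.left := by
    have := Scheme.Hom.finite_preimage_singleton N.hom (IsLocalRing.closedPoint k)
    have h : N.hom ⁻¹' {IsLocalRing.closedPoint k} = Set.univ :=
      Set.eq_univ_of_forall fun x => Subsingleton.elim (α := Spec (CommRingCat.of k)) _ _
    exact Set.finite_univ_iff.mp (h ▸ this)
  haveI : DiscreteTopology N.left := inferInstance
  haveI : Subsingleton N.left := ⟨fun a b => (IsClopen.eq_univ ⟨isClosed_discrete _, isOpen_discrete _⟩ (Set.singleton_nonempty b)).symm.subset (Set.mem_univ a)⟩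
  let s : Spec (CommRingCat.of k) ⟶ N.left :=
    (hN.lift η[X] (𝟙 _) (by rw [IsMonHom.one_hom, Category.id_comp])).left
  have hs : s ≫ N.hom = 𝟙 _ := Over.w _
  haveI : Surjective s := ⟨fun x => ⟨IsLocalRing.closedPoint k, Subsingleton.elim _ _⟩⟩
  rw [UniversallyInjective.iff_diagonal]
  let t : N.left ⟶ pullback N.hom N.hom := pullback.lift (N.hom ≫ s) (𝟙 _) (by simp [hs])
  let p₁ := pullback.fst (pullback.fst N.hom N.hom) s
  have hc := pullback.condition (f := pullback.fst N.hom N.hom) (g := s)
  have e₁ : p₁ = (p₁ ≫ pullback.snd N.hom N.hom) ≫ t := by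
    apply pullback.hom_ext
    · simp only [t, p₁, Category.assoc, pullback.lift_fst, ← pullback.condition_assoc, reassoc_of% hc,
        reassoc_of% hs]
      exact hc
    · simp only [t, p₁, Category.assoc, pullback.lift_snd, Category.comp_id]
  haveI : Surjective ((p₁ ≫ pullback.snd N.hom N.hom) ≫ t) := e₁ ▸ inferInstance
  haveI : Surjective t := Surjective.of_comp (p₁ ≫ pullback.snd N.hom N.hom) t
  have e₂ : s ≫ t = s ≫ pullback.diagonal N.hom := by
    apply pullback.hom_ext
    · rw [Category.assoc, Category.assoc, pullback.lift_fst, pullback.diagonal_fst, Category.comp_id,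
        ← Category.assoc, hs, Category.id_comp]
    · rw [Category.assoc, Category.assoc, pullback.lift_snd, pullback.diagonal_snd]
  haveI : Surjective (s ≫ pullback.diagonal N.hom) := e₂ ▸ inferInstance
  exact Surjective.of_comp s _

end Groth.Agent.AbRigid
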