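import Groth.Agent.Lib.AbRigid.Isogeny
import Groth.Agent.Lib.AbRigid.Connected
import Groth.Agent.Lib.AbRigid.KernelPair
import Groth.Agent.Lib.AbRigid.GrpTop
import Groth.Agent.Lib.AbRigid.SmoothGI
import Groth.Agent.Lib.FlatH4.SmoothFibres
import Groth.Agent.Lib.SchBasic.Basic
import Groth.Agent.Lib.FpqcDesc.Basic

/-!
# Flatness, surjectivity and finiteness of homomorphisms of group schemes, tested on fibres
-/

open CategoryTheory Limits AlgebraicGeometry MonoidalCategory CartesianMonoidalCategory MonObj
open scoped CategoryTheory.Obj

set_option linter.style.haveILetI false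
set_option backward.isDefEq.respectTransparency false

namespace Groth.Agent.AbRigid

universe u

section Field

variable {K : Type u} [Field K]

/-- A surjective homomorphism onto a reduced group scheme is flat. -/
theorem flat_of_surjective_of_isReduced (G H : Over (Spec (CommRingCat.of K))) [GrpObj G] [GrpObj H]
    [IsReduced H.left] (f : G ⟶ H) [IsMonHom f] [Surjective f.left] : Flat f.left := by
  let x₀ : H.left := η[H].left (IsLocalRing.closedPoint K)
  obtain ⟨η₀, hη⟩ := QuasiSober.sober (S := irreducibleComponent x₀)
    isIrreducible_irreducibleComponent isClosed_irreducibleComponent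
  obtain ⟨ξ, hξ⟩ := f.left.surjective η₀
  refine flat_of_flat_stalkMap G H f ξ ?_
  have hF : IsField (H.left.presheaf.stalk (f.left ξ)) := by
    rw [hξ]
    exact isField_stalk_of_closure_mem_irreducibleComponents H.left η₀
      (hη.def ▸ irreducibleComponent_mem_irreducibleComponents x₀)
  letI : Field (H.left.presheaf.stalk (f.left ξ)) := hF.toField
  algebraize [(f.left.stalkMap ξ).hom]
  exact (inferInstance : Module.Flat (H.left.presheaf.stalk (f.left ξ)) (G.left.presheaf.stalk ξ))

/-- A flat homomorphism to a connected group scheme is surjective. -/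
theorem surjective_of_flat (G H : Over (Spec (CommRingCat.of K))) [GrpObj G] [GrpObj H]
    [LocallyOfFiniteType G.hom] [LocallyOfFiniteType H.hom]
    [ConnectedSpace H.left] (f : G ⟶ H) [IsMonHom f] [Flat f.left] : Surjective f.left := by
  haveI : IsLocallyNoetherian H.left := LocallyOfFiniteType.isLocallyNoetherian H.hom
  haveI : LocallyOfFiniteType (f.left ≫ H.hom) := by rw [Over.w]; infer_instance
  haveI : LocallyOfFiniteType f.left := locallyOfFiniteType_of_comp f.left H.hom
  haveI : LocallyOfFinitePresentation f.left := inferInstance
  have ho : IsOpen (Set.range f.left) := f.left.isOpenMap.isOpen_range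
  have hc : IsClosed (Set.range f.left) := isClosed_range_of_isOpen f ho
  exact ⟨Set.range_eq_univ.1 (IsClopen.eq_univ ⟨hc, ho⟩ ⟨_, one_mem_range f⟩)⟩

/-- A quasi-finite flat surjective quasi-compact homomorphism is finite. -/
theorem isFinite_of_flat_of_locallyQuasiFinite (G H : Over (Spec (CommRingCat.of K))) [GrpObj G] [GrpObj H]
    (f : G ⟶ H) [IsMonHom f] [Flat f.left] [Surjective f.left] [QuasiCompact f.left]
    [LocallyQuasiFinite f.left] : IsFinite f.left := by
  let N : Over (Spec (CommRingCat.of K)) := Over.mk (pullback.snd f.left η[H].left)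
  let i : N ⟶ G := Over.homMk (pullback.fst f.left η[H].left) (by
    show pullback.fst f.left η[H].left ≫ G.hom = pullback.snd _ _
    rw [← Over.w f, pullback.condition_assoc, Over.w η[H]]
    exact Category.comp_id _)
  have hN : AlgGrp.IsKernel i f := by
    refine IsPullback.of_map (Over.forget _) ?_ ?_
    · ext1
      simp [i, N, pullback.condition]
    · simpa [N, i] using IsPullback.of_hasPullback f.left η[H].left
  haveI := Groth.Agent.FpqcDesc.descendsAlong_isFinite.{u}
  refine of_kernel f i hN @IsFinite ?_
  show IsFinite N.hom
  haveI : QuasiCompact N.hom := MorphismProperty.pullback_snd _ _ ‹QuasiCompact f.left›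
  haveI : LocallyQuasiFinite N.hom := MorphismProperty.pullback_snd _ _ ‹LocallyQuasiFinite f.left›
  let y : Spec (CommRingCat.of K) := IsLocalRing.closedPoint K
  let a := (Spec (CommRingCat.of K)).fromSpecResidueField y
  haveI : Surjective a := ⟨fun z => ⟨IsLocalRing.closedPoint _, Subsingleton.elim _ _⟩⟩
  haveI : IsClosedImmersion a := .of_isPreimmersion _ (isClosed_discrete _)
  haveI : IsIso a := by
    rw [IsClosedImmersion.isIso_iff_ker_eq_bot]
    exact Scheme.IdealSheafData.support_eq_top_iff.1 (by
      ext x
      rw [Scheme.Hom.support_ker]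
      simpa using subset_closure (a.surjective x))
  have h : IsFinite (N.hom.fiberι y ≫ N.hom) := by
    rw [show N.hom.fiberι y ≫ N.hom = N.hom.fiberToSpecResidueField y ≫ a from pullback.condition]
    exact MorphismProperty.comp_mem _ _ _ (locallyQuasiFinite_iff_isFinite_fiber.1 inferInstance y) inferInstance
  haveI : IsIso (N.hom.fiberι y) := inferInstanceAs (IsIso (pullback.fst N.hom a))
  exact (MorphismProperty.cancel_left_of_respectsIso @IsFinite _ _).1 h

open VarDim in
/-- A finite surjective morphism between irreducible schemes over a field preserves dimension. -/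
theorem dim_eq_of_isFinite_of_surjective (A B : Over (Spec (CommRingCat.of K))) [LocallyOfFiniteType B.hom]
    [IrreducibleSpace A.left] [IrreducibleSpace B.left] (f : A ⟶ B) [IsFinite f.left] [Surjective f.left] :
    topologicalKrullDim A.left = topologicalKrullDim B.left := by
  haveI : LocallyOfFiniteType (f.left ≫ B.hom) := inferInstance
  haveI : LocallyOfFiniteType A.hom := by rw [← Over.w f]; infer_instance
  have hg : f.left (genericPoint A.left) = genericPoint B.left := by
    obtain ⟨x, hx⟩ := f.left.surjective (genericPoint B.left)
    have h := ((genericPoint_spec A.left).specializes (Set.mem_univ x)).map f.left.continuous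
    rw [hx] at h
    exact (Specializes.antisymm h ((genericPoint_spec B.left).specializes (Set.mem_univ _))).eq
  rw [dim_eq_sdim_genericPoint A.hom, dim_eq_sdim_genericPoint B.hom]
  have h1 := sdim_le_comp B.hom f.left (genericPoint A.left)
  rw [hg, Over.w] at h1
  have hfib : topologicalKrullDim (f.left ⁻¹' {f.left (genericPoint A.left)} : Set A.left) ≤ ((0 : ℕ) : WithBot ℕ∞) := by
    haveI : DiscreteTopology ↥(f.left ⁻¹' {f.left (genericPoint A.left)}) :=
      (f.left.isDiscrete_preimage_singleton _).to_subtype
    simpa using topologicalKrullDim_zero_of_discreteTopology ↥(f.left ⁻¹' {f.left (genericPoint A.left)})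
  have h3 := (dim_preimage_singleton_le_iff B.hom f.left _ 0).1 hfib (genericPoint A.left) rfl
  rw [Over.w, hg] at h3
  have : sdim A.hom (genericPoint A.left) = sdim B.hom (genericPoint B.left) := by omega
  rw [this]

end Field

section Base

variable {S : Scheme.{u}} {X Y : Over S} (f : X ⟶ Y) (s : S)

/-- The map on the fibre over `s`. -/
noncomputable abbrev fibreMap :
    (Over.pullback (S.fromSpecResidueField s)).obj X ⟶ (Over.pullback (S.fromSpecResidueField s)).obj Y :=
  (Over.pullback (S.fromSpecResidueField s)).map f

theorem isPullback_fibreMap :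
    IsPullback (X.hom.fiberι s) (fibreMap f s).left f.left (Y.hom.fiberι s) := by
  refine IsPullback.of_bot ?_ ?_ (IsPullback.of_hasPullback Y.hom (S.fromSpecResidueField s))
  · have h2 : (fibreMap f s).left ≫ pullback.snd Y.hom (S.fromSpecResidueField s) =
        pullback.snd X.hom (S.fromSpecResidueField s) := Over.w (fibreMap f s)
    rw [Over.w f, h2]
    exact IsPullback.of_hasPullback _ _
  · simp [fibreMap, Scheme.Hom.fiberι]

theorem fibre_iff (P : MorphismProperty Scheme.{u}) [P.RespectsIso] :
    P (pullback.snd f.left (Y.hom.fiberι s)) ↔ P (fibreMap f s).left := by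
  have h := (isPullback_fibreMap f s).isoPullback_inv_snd
  constructor
  · intro hp
    rw [← (isPullback_fibreMap f s).isoPullback_hom_snd]
    exact (P.cancel_left_of_respectsIso _ _).2 hp
  · intro hp
    rw [← h]
    exact (P.cancel_left_of_respectsIso _ _).2 hp

theorem surjective_iff_fibres : Surjective f.left ↔ ∀ s : S, Surjective (fibreMap f s).left := by
  constructor
  · intro h s
    exact MorphismProperty.of_isPullback (isPullback_fibreMap f s) h
  · intro h
    refine ⟨fun y => ?_⟩
    obtain ⟨t, ht⟩ : ∃ t : S, Y.hom y = t := ⟨_, rfl⟩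
    obtain ⟨y', rfl⟩ : y ∈ Set.range (Y.hom.fiberι t) := by
      rw [Scheme.Hom.range_fiberι]; exact ht
    obtain ⟨z, rfl⟩ := (h t).surj y'
    refine ⟨X.hom.fiberι t z, ?_⟩
    exact (congrArg (fun g => g z) (isPullback_fibreMap f t).w : _)

variable [GrpObj X] [GrpObj Y] [IsMonHom f]

instance : IsMonHom (fibreMap f s) := inferInstanceAs (IsMonHom ((Over.pullback _).map f))

instance [GeometricallyReduced Y.hom] : IsReduced ((Over.pullback (S.fromSpecResidueField s)).obj Y).left :=
  inferInstanceAs (IsReduced (Y.hom.fiber s))

instance [GeometricallyConnected Y.hom] : ConnectedSpace ((Over.pullback (S.fromSpecResidueField s)).obj Y).left :=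
  inferInstanceAs (ConnectedSpace (Y.hom.fiber s))

instance [GeometricallyReduced Y.hom] :
    GeometricallyReduced ((Over.pullback (S.fromSpecResidueField s)).obj Y).hom :=
  inferInstanceAs (GeometricallyReduced (pullback.snd Y.hom (S.fromSpecResidueField s)))

instance [LocallyOfFiniteType Y.hom] :
    LocallyOfFiniteType ((Over.pullback (S.fromSpecResidueField s)).obj Y).hom :=
  inferInstanceAs (LocallyOfFiniteType (pullback.snd Y.hom (S.fromSpecResidueField s)))

theorem isIntegral_fibre [LocallyOfFiniteType Y.hom] [GeometricallyReduced Y.hom]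
    [GeometricallyConnected Y.hom] :
    IsIntegral ((Over.pullback (S.fromSpecResidueField s)).obj Y).left := by
  let Z := (Over.pullback (S.fromSpecResidueField s)).obj Y
  haveI : GeometricallyIntegral Z.hom := geometricallyIntegral_of_connected Z
  haveI : IsLocallyNoetherian Z.left := LocallyOfFiniteType.isLocallyNoetherian Z.hom
  exact GeometricallyIntegral.isIntegral_of_subsingleton Z.hom

/-- Flatness of a surjective homomorphism from a flat group scheme to one with reduced fibres. -/
theorem flat_of_surjective_rel [LocallyOfFinitePresentation X.hom] [Flat X.hom] [LocallyOfFiniteType Y.hom]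
    [GeometricallyReduced Y.hom] [Surjective f.left] : Flat f.left := by
  haveI : LocallyOfFinitePresentation (f.left ≫ Y.hom) := by rw [Over.w]; infer_instance
  haveI : Flat (f.left ≫ Y.hom) := by rw [Over.w]; infer_instance
  refine FlatH4.flat_of_fibres f.left Y.hom fun s => (fibre_iff f s @Flat).2 ?_
  haveI := (surjective_iff_fibres f).1 ‹_› s
  exact flat_of_surjective_of_isReduced _ _ (fibreMap f s)

/-- A flat homomorphism to a group scheme with connected fibres is surjective. -/
theorem surjective_of_flat_rel [LocallyOfFiniteType X.hom] [LocallyOfFiniteType Y.hom]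
    [GeometricallyConnected Y.hom] [Flat f.left] : Surjective f.left :=
  (surjective_iff_fibres f).2 fun s => by
    haveI : Flat (fibreMap f s).left := MorphismProperty.of_isPullback (isPullback_fibreMap f s) ‹Flat f.left›
    exact surjective_of_flat _ _ (fibreMap f s)

end Base

end Groth.Agent.AbRigid
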