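import Groth.Agent.Lib.AbRigid.Basic
import Groth.Agent.Lib.AbRigid.Connected
import Groth.Agent.Lib.RedSep.Basic
import Mathlib.AlgebraicGeometry.AlgClosed.Basic
import Mathlib.AlgebraicGeometry.Geometrically.Integral

/-!
# Components of fibres of morphisms from abelian varieties
-/

universe u

open CategoryTheory Limits MonoidalCategory CartesianMonoidalCategory AlgebraicGeometry TopologicalSpace

set_option linter.style.haveILetI false
set_option backward.isDefEq.respectTransparency false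

open scoped MonObj GrpObj

namespace Groth.Agent.AbRigid

variable {k : Type u} [Field k] {X Z : Over (Spec (CommRingCat.of k))}

/-- The point of the base. -/
noncomputable abbrev pt₀ (k : Type u) [Field k] : Spec (CommRingCat.of k) := IsLocalRing.closedPoint k

theorem isClosed_image_point [IsSeparated Z.hom] (z : 𝟙_ (Over (Spec (CommRingCat.of k))) ⟶ Z) :
    IsClosed ({z.left (pt₀ k)} : Set Z.left) := by
  haveI := isClosedImmersion_of_comp_eq_id (Y := Spec (CommRingCat.of k)) Z.hom z.left (by simp)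
  have h := z.left.isClosedEmbedding.isClosed_range
  rwa [show Set.range z.left = {z.left (pt₀ k)} from Set.ext fun y =>
    ⟨fun ⟨w, hw⟩ => hw ▸ congrArg _ (Subsingleton.elim (α := Spec (CommRingCat.of k)) w _),
      fun hy => ⟨_, (Set.mem_singleton_iff.1 hy).symm⟩⟩] at h

variable [GrpObj X]

/-- The connected component through the unit of the fibre through the unit. -/
def unitComp (f : X ⟶ Z) : Set X.left :=
  connectedComponentIn (f.left ⁻¹' {f.left ((η[X]).left (pt₀ k))}) ((η[X]).left (pt₀ k))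

theorem isClosed_unitComp [IsSeparated Z.hom] (f : X ⟶ Z) : IsClosed (unitComp f) := by
  have hF : IsClosed (f.left ⁻¹' {f.left ((η[X]).left (pt₀ k))}) := by
    have h := isClosed_image_point ((η[X] : 𝟙_ _ ⟶ X) ≫ f)
    rw [Over.comp_left, Scheme.Hom.comp_apply] at h
    exact h.preimage f.left.continuous
  refine isClosed_of_closure_subset ?_
  exact isPreconnected_connectedComponentIn.closure.subset_connectedComponentIn
    (subset_closure (mem_connectedComponentIn (Set.mem_singleton _)))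
    (closure_minimal (connectedComponentIn_subset _ _) hF)

variable [IsProper X.hom] [GeometricallyIntegral X.hom] [IsAlgClosed k] [IsSeparated Z.hom]

/-- Right translates of an irreducible closed subset of a fibre stay in one fibre. -/
theorem apply_mul_eq_of_irreducible (f : X ⟶ Z) {T : Set X.left} (hT : IsClosed T) (hTirr : IsIrreducible T)
    (hTf : T ⊆ f.left ⁻¹' {f.left ((η[X]).left (pt₀ k))})
    (p q : 𝟙_ (Over (Spec (CommRingCat.of k))) ⟶ X) (hp : p.left (pt₀ k) ∈ T) (hq : q.left (pt₀ k) ∈ T)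
    (a : 𝟙_ (Over (Spec (CommRingCat.of k))) ⟶ X) : (p * a) ≫ f = (q * a) ≫ f := by
  let Zc : Closeds X.left := ⟨T, hT⟩
  let I := Scheme.IdealSheafData.vanishingIdeal Zc
  haveI : AlgebraicGeometry.IsReduced I.subscheme := RedSepLib.isReduced_vanishingIdeal_subscheme Zc
  have hrange : Set.range I.subschemeι = T := by
    rw [Scheme.IdealSheafData.range_subschemeι]; simp [I, Zc]
  haveI : IrreducibleSpace I.subscheme := by
    have hgen := hTirr.closure_genericPoint hT
    obtain ⟨x', hx'⟩ := hrange.ge (hgen.le (subset_closure (Set.mem_singleton hTirr.genericPoint)))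
    refine irreducibleSpace_def _ |>.2 ?_
    have h1 : IsGenericPoint x' (Set.univ : Set I.subscheme) := by
      refine Set.eq_univ_of_forall fun y => ?_
      rw [← specializes_iff_mem_closure, ← I.subschemeι.isEmbedding.isInducing.specializes_iff, hx',
        specializes_iff_mem_closure, hgen, ← hrange]
      exact ⟨y, rfl⟩
    exact h1.isIrreducible
  haveI : IsIntegral I.subscheme := isIntegral_of_irreducibleSpace_of_isReduced _
  let B : Over (Spec (CommRingCat.of k)) := Over.mk (I.subschemeι ≫ X.hom)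
  let j : B ⟶ X := Over.homMk I.subschemeι rfl
  haveI : IsClosedImmersion j.left := inferInstanceAs (IsClosedImmersion I.subschemeι)
  haveI : IsProper B.hom := inferInstanceAs (IsProper (I.subschemeι ≫ X.hom))
  haveI : IsIntegral B.left := ‹IsIntegral I.subscheme›
  haveI : IsLocallyNoetherian B.left := LocallyOfFiniteType.isLocallyNoetherian B.hom
  haveI : IsIntegral (B ⊗ X).left :=
    GeometricallyIntegral.isIntegral_of_isLocallyNoetherian (pullback.fst B.hom X.hom)
  have hlift : ∀ r : 𝟙_ (Over (Spec (CommRingCat.of k))) ⟶ X, r.left (pt₀ k) ∈ T →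
      ∃ r' : 𝟙_ (Over (Spec (CommRingCat.of k))) ⟶ B, r' ≫ j = r := fun r hr => by
    obtain ⟨z, hz⟩ := hrange.ge hr
    have hzc : IsClosed ({z} : Set B.left) := by
      have := (isClosed_image_point (Z := X) r).preimage I.subschemeι.continuous
      rwa [← hz, show I.subschemeι ⁻¹' {I.subschemeι z} = {z} from Set.ext fun w =>
        ⟨fun hw => I.subschemeι.isEmbedding.injective hw, fun hw => congrArg _ hw⟩] at this
    refine ⟨Over.homMk (pointOfClosedPoint B.hom z hzc) (by simp), ?_⟩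
    ext1
    refine ext_of_apply_closedPoint_eq X.hom (Over.w _) (Over.w _) ?_
    rw [Over.comp_left, Scheme.Hom.comp_apply]
    exact (congrArg I.subschemeι (pointOfClosedPoint_apply B.hom z hzc _)).trans hz
  obtain ⟨p', rfl⟩ := hlift p hp
  obtain ⟨q', rfl⟩ := hlift q hq
  let g : B ⊗ X ⟶ Z := ((fst B X ≫ j) * snd B X) ≫ f
  have hzloft : LocallyOfFiniteType B.hom := inferInstance
  have hslice : slice (1 : 𝟙_ (Over (Spec (CommRingCat.of k))) ⟶ X) ≫ g =
      toUnit B ≫ ((η[X] : 𝟙_ _ ⟶ X) ≫ f) := by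
    have h1 : slice (1 : 𝟙_ (Over (Spec (CommRingCat.of k))) ⟶ X) ≫ g = j ≫ f := by
      rw [← Category.assoc, MonObj.comp_mul, lift_fst_assoc, lift_snd, Category.id_comp, MonObj.comp_one, mul_one]
    rw [h1]
    ext1
    let e : Spec (CommRingCat.of k) ⟶ X.left := (η[X] : 𝟙_ _ ⟶ X).left
    let w : Spec (CommRingCat.of k) ⟶ Z.left := e ≫ f.left
    haveI : IsClosedImmersion w := isClosedImmersion_of_comp_eq_id (Y := Spec (CommRingCat.of k)) Z.hom w
      (by simp [w, e])
    show I.subschemeι ≫ f.left = (toUnit B).left ≫ e ≫ f.left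
    have hker : w.ker ≤ (I.subschemeι ≫ f.left).ker := by
      haveI : AlgebraicGeometry.IsReduced (Spec (CommRingCat.of k)) := inferInstance
      rw [RedSepLib.ker_eq_vanishingIdeal, RedSepLib.ker_eq_vanishingIdeal]
      refine Scheme.IdealSheafData.vanishingIdeal_antimono ?_
      refine closure_mono ?_
      rintro _ ⟨b, rfl⟩
      refine ⟨pt₀ k, ?_⟩
      have hb : I.subschemeι b ∈ T := hrange ▸ ⟨b, rfl⟩
      exact (Set.mem_singleton_iff.1 (hTf hb)).symm
    have h2 := IsClosedImmersion.lift_fac w (I.subschemeι ≫ f.left) hker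
    rw [← h2]
    have h3 : IsClosedImmersion.lift w (I.subschemeι ≫ f.left) hker = (toUnit B).left := by
      have h4 := congrArg (fun m => m ≫ Z.hom) h2
      simp only [Category.assoc, w, e, Over.w f] at h4
      simp at h4
      exact h4
    rw [h3]
  have key := rigidity_of_isAlgClosed B X Z g p' 1 ((η[X] : 𝟙_ _ ⟶ X) ≫ f) hslice
  have hval : ∀ r : 𝟙_ (Over (Spec (CommRingCat.of k))) ⟶ B, lift r a ≫ g = (r ≫ j * a) ≫ f := fun r => by
    rw [← Category.assoc, MonObj.comp_mul, lift_fst_assoc, lift_snd]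
  have hconst : ∀ r : 𝟙_ (Over (Spec (CommRingCat.of k))) ⟶ B, lift r a ≫ g = lift p' a ≫ g := fun r => by
    rw [key]
    simp only [← Category.assoc, lift_snd]
  rw [← hval, ← hval, hconst q']

/-- Translates of the unit component lie in fibres. -/
theorem apply_mul_eq (f : X ⟶ Z) (c : 𝟙_ (Over (Spec (CommRingCat.of k))) ⟶ X)
    (hc : c.left (pt₀ k) ∈ unitComp f) (a : 𝟙_ (Over (Spec (CommRingCat.of k))) ⟶ X) :
    (c * a) ≫ f = a ≫ f := by
  haveI : IsLocallyNoetherian X.left := LocallyOfFiniteType.isLocallyNoetherian X.hom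
  haveI : CompactSpace X.left := QuasiCompact.compactSpace_of_compactSpace X.hom
  haveI : AlgebraicGeometry.IsNoetherian X.left := {}
  haveI : JacobsonSpace X.left := LocallyOfFiniteType.jacobsonSpace X.hom
  let C := unitComp f
  have hC : IsClosed C := isClosed_unitComp f
  have hCf : C ⊆ f.left ⁻¹' {f.left ((η[X]).left (pt₀ k))} := connectedComponentIn_subset _ _
  have hCconn : _root_.IsPreconnected C := isPreconnected_connectedComponentIn
  obtain ⟨S, hSfin, hS⟩ := NoetherianSpace.exists_finite_set_isClosed_irreducible (α := X.left) hC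
  let Good : Set X.left → Prop := fun T => ∀ r : 𝟙_ (Over (Spec (CommRingCat.of k))) ⟶ X,
    r.left (pt₀ k) ∈ T → (r * a) ≫ f = a ≫ f
  let Bad : Set X.left → Prop := fun T => ∀ r : 𝟙_ (Over (Spec (CommRingCat.of k))) ⟶ X,
    r.left (pt₀ k) ∈ T → (r * a) ≫ f ≠ a ≫ f
  have hdich : ∀ T ∈ S, Good T ∨ Bad T := fun T hT => by
    by_cases h : ∃ r : 𝟙_ (Over (Spec (CommRingCat.of k))) ⟶ X,
        r.left (pt₀ k) ∈ T ∧ (r * a) ≫ f = a ≫ f
    · obtain ⟨r, hr, hr'⟩ := h
      exact Or.inl fun r' hr'' => (apply_mul_eq_of_irreducible f (hS.1 T hT) (hS.2.1 T hT)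
        ((hS.2.2.symm ▸ Set.subset_sUnion_of_mem hT : T ⊆ C).trans hCf) r' r hr'' hr a).trans hr'
    · exact Or.inr fun r hr hr' => h ⟨r, hr, hr'⟩
  let G := ⋃₀ {T ∈ S | Good T}
  let B := ⋃₀ {T ∈ S | Bad T}
  have hG : IsClosed G := (hSfin.subset (Set.sep_subset _ _)).isClosed_biUnion (fun T hT => hS.1 T hT.1) |>
    fun h => by rw [show G = ⋃ T ∈ {T ∈ S | Good T}, T from Set.sUnion_eq_biUnion]; exact h
  have hB : IsClosed B := (hSfin.subset (Set.sep_subset _ _)).isClosed_biUnion (fun T hT => hS.1 T hT.1) |>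
    fun h => by rw [show B = ⋃ T ∈ {T ∈ S | Bad T}, T from Set.sUnion_eq_biUnion]; exact h
  have hcover : C ⊆ G ∪ B := fun x hx => by
    obtain ⟨T, hT, hxT⟩ := hS.2.2.le hx
    exact (hdich T hT).elim (fun h => Or.inl ⟨T, ⟨hT, h⟩, hxT⟩) fun h => Or.inr ⟨T, ⟨hT, h⟩, hxT⟩
  have he : (η[X]).left (pt₀ k) ∈ C := mem_connectedComponentIn (Set.mem_singleton _)
  have heG : (η[X]).left (pt₀ k) ∈ G := (hcover he).resolve_right fun ⟨T, ⟨_, hbad⟩, heT⟩ =>
    hbad 1 (by
      rw [show (1 : 𝟙_ (Over (Spec (CommRingCat.of k))) ⟶ X) = η[X] by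
        rw [Hom.one_def, toUnit_unit, Category.id_comp]]
      exact heT) (by rw [one_mul])
  rcases hcover hc with ⟨T, ⟨-, hgood⟩, hcT⟩ | ⟨T, ⟨hT, hbad⟩, hcT⟩
  · exact hgood c hcT
  · exfalso
    obtain ⟨z, hz, hzG, hzB⟩ := isPreconnected_closed_iff.1 hCconn G B hG hB hcover ⟨_, he, heG⟩
      ⟨_, hc, ⟨T, ⟨hT, hbad⟩, hcT⟩⟩
    obtain ⟨w, hw, hwc⟩ := nonempty_inter_closedPoints (Z := C ∩ (G ∩ B)) ⟨z, hz, hzG, hzB⟩
      (hC.inter (hG.inter hB)).isLocallyClosed
    let r : 𝟙_ (Over (Spec (CommRingCat.of k))) ⟶ X := Over.homMk (pointOfClosedPoint X.hom w hwc) (by simp)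
    have hr : r.left (pt₀ k) = w := pointOfClosedPoint_apply X.hom w hwc _
    obtain ⟨-, ⟨T₁, ⟨-, h1⟩, hw1⟩, ⟨T₂, ⟨-, h2⟩, hw2⟩⟩ := hw
    exact h2 r (hr ▸ hw2) (h1 r (hr ▸ hw1))

end Groth.Agent.AbRigid
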