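import Groth.Agent.Lib.AbRigid.FibreComponent
import Mathlib.AlgebraicGeometry.Group.Abelian
import Mathlib.FieldTheory.IsAlgClosed.AlgebraicClosure

/-!
# Translates of components of fibres of morphisms from abelian varieties
-/

universe u

open CategoryTheory Limits MonoidalCategory CartesianMonoidalCategory AlgebraicGeometry TopologicalSpace

set_option linter.style.haveILetI false
set_option backward.isDefEq.respectTransparency false

open scoped MonObj GrpObj

namespace Groth.Agent.AbRigid

variable {k : Type u} [Field k] {X Z : Over (Spec (CommRingCat.of k))} [GrpObj X]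

/-- Left translation. -/
noncomputable abbrev ltr (a : 𝟙_ (Over (Spec (CommRingCat.of k))) ⟶ X) : X ⟶ X := (toUnit X ≫ a) * 𝟙 X

theorem comp_ltr (p a : 𝟙_ (Over (Spec (CommRingCat.of k))) ⟶ X) : p ≫ ltr a = a * p := by
  rw [MonObj.comp_mul, Category.comp_id, ← Category.assoc, toUnit_unique (p ≫ toUnit X) (𝟙 _), Category.id_comp]

theorem ltr_comp_ltr (a b : 𝟙_ (Over (Spec (CommRingCat.of k))) ⟶ X) : ltr a ≫ ltr b = ltr (b * a) := by
  simp only [ltr, MonObj.comp_mul, Category.comp_id, ← Category.assoc, CartesianMonoidalCategory.comp_toUnit, mul_assoc]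

theorem ltr_one : ltr (1 : 𝟙_ (Over (Spec (CommRingCat.of k))) ⟶ X) = 𝟙 X := by
  simp only [ltr, MonObj.comp_one, one_mul]

/-- Left translation as an isomorphism. -/
noncomputable def ltrIso (a : 𝟙_ (Over (Spec (CommRingCat.of k))) ⟶ X) : X ≅ X where
  hom := ltr a
  inv := ltr a⁻¹
  hom_inv_id := by rw [ltr_comp_ltr, inv_mul_cancel, ltr_one]
  inv_hom_id := by rw [ltr_comp_ltr, mul_inv_cancel, ltr_one]

/-- Left translation as a homeomorphism. -/
noncomputable def ltrHomeo (a : 𝟙_ (Over (Spec (CommRingCat.of k))) ⟶ X) : X.left ≃ₜ X.left :=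
  TopCat.homeoOfIso (Scheme.forgetToTop.mapIso ((Over.forget _).mapIso (ltrIso a)))

theorem ltrHomeo_apply (a : 𝟙_ (Over (Spec (CommRingCat.of k))) ⟶ X) (x : X.left) :
    ltrHomeo a x = (ltr a).left x := rfl

theorem ltrHomeo_point (a p : 𝟙_ (Over (Spec (CommRingCat.of k))) ⟶ X) :
    ltrHomeo a (p.left (pt₀ k)) = (a * p).left (pt₀ k) := by
  rw [ltrHomeo_apply, ← Scheme.Hom.comp_apply, ← Over.comp_left, comp_ltr]

theorem ltrHomeo_unit (a : 𝟙_ (Over (Spec (CommRingCat.of k))) ⟶ X) :
    ltrHomeo a ((η[X]).left (pt₀ k)) = a.left (pt₀ k) := by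
  have h : (η[X] : 𝟙_ _ ⟶ X) = (1 : 𝟙_ (Over (Spec (CommRingCat.of k))) ⟶ X) := by
    rw [Hom.one_def, toUnit_unit, Category.id_comp]
  rw [h, ltrHomeo_point, mul_one]

theorem ltrHomeo_symm_apply (a : 𝟙_ (Over (Spec (CommRingCat.of k))) ⟶ X) (x : X.left) :
    ltrHomeo a⁻¹ (ltrHomeo a x) = x := by
  rw [ltrHomeo_apply, ltrHomeo_apply, ← Scheme.Hom.comp_apply, ← Over.comp_left, ltr_comp_ltr, inv_mul_cancel,
    ltr_one]
  rfl

theorem ltrHomeo_apply_symm (a : 𝟙_ (Over (Spec (CommRingCat.of k))) ⟶ X) (x : X.left) :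
    ltrHomeo a (ltrHomeo a⁻¹ x) = x := by
  simpa using ltrHomeo_symm_apply a⁻¹ x

/-- The component of the point `a` in its fibre. -/
def compAt (f : X ⟶ Z) (a : 𝟙_ (Over (Spec (CommRingCat.of k))) ⟶ X) : Set X.left :=
  connectedComponentIn (f.left ⁻¹' {f.left (a.left (pt₀ k))}) (a.left (pt₀ k))

theorem compAt_unitComp (f : X ⟶ Z) (a : 𝟙_ (Over (Spec (CommRingCat.of k))) ⟶ X) :
    ltrHomeo a '' unitComp (ltr a ≫ f) = compAt f a := by
  have hF : ∀ y, (ltr a ≫ f).left y = f.left (ltrHomeo a y) := fun y => by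
    rw [Over.comp_left, Scheme.Hom.comp_apply]; rfl
  rw [unitComp, Homeomorph.image_connectedComponentIn, ltrHomeo_unit, compAt]
  congr 1
  · ext z
    simp only [Set.mem_image, Set.mem_preimage, Set.mem_singleton_iff, hF, ltrHomeo_unit]
    exact ⟨fun ⟨y, hy, hyz⟩ => hyz ▸ hy,
      fun hz => ⟨ltrHomeo a⁻¹ z, by rw [ltrHomeo_apply_symm]; exact hz, ltrHomeo_apply_symm a z⟩⟩
  · exact Set.mem_singleton _

variable [IsProper X.hom] [GeometricallyIntegral X.hom] [IsSeparated Z.hom]

theorem image_unitComp_subset [IsAlgClosed k] (f : X ⟶ Z) (a : 𝟙_ (Over (Spec (CommRingCat.of k))) ⟶ X) :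
    ltrHomeo a '' unitComp f ⊆ compAt f a := by
  haveI := isCommMonObj_of_isProper_of_geometricallyIntegral X
  haveI : JacobsonSpace X.left := LocallyOfFiniteType.jacobsonSpace X.hom
  have hsub : ltrHomeo a '' unitComp f ⊆ f.left ⁻¹' {f.left (a.left (pt₀ k))} := by
    have hcl : IsClosed (ltrHomeo a ⁻¹' (f.left ⁻¹' {f.left (a.left (pt₀ k))})) := by
      have h := isClosed_image_point (a ≫ f)
      rw [Over.comp_left, Scheme.Hom.comp_apply] at h
      exact (h.preimage f.left.continuous).preimage (ltrHomeo a).continuous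
    rw [Set.image_subset_iff, ← (JacobsonSpace.closure_inter_closedPoints_eq_closure (isClosed_unitComp f).isLocallyClosed).trans
      (isClosed_unitComp f).closure_eq]
    refine closure_minimal (fun w ⟨hw, hwc⟩ => ?_) hcl
    let r : 𝟙_ (Over (Spec (CommRingCat.of k))) ⟶ X := Over.homMk (pointOfClosedPoint X.hom w hwc) (by simp)
    have hr : r.left (pt₀ k) = w := pointOfClosedPoint_apply X.hom w hwc _
    have h := apply_mul_eq f r (hr ▸ hw) a
    rw [Set.mem_preimage, ← hr, ltrHomeo_point, Set.mem_preimage, Set.mem_singleton_iff, ← Scheme.Hom.comp_apply,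
      ← Scheme.Hom.comp_apply, ← Over.comp_left, ← Over.comp_left, mul_comm a r, h]
  refine IsPreconnected.subset_connectedComponentIn ?_ ?_ hsub
  · exact isPreconnected_connectedComponentIn.image _ (ltrHomeo a).continuous.continuousOn
  · exact ⟨_, mem_connectedComponentIn (Set.mem_singleton _), ltrHomeo_unit a⟩

/-- Translation carries the unit component onto the component of `a`. -/
theorem image_unitComp_eq_of_isAlgClosed [IsAlgClosed k] (f : X ⟶ Z) (a : 𝟙_ (Over (Spec (CommRingCat.of k))) ⟶ X) :
    ltrHomeo a '' unitComp f = compAt f a := by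
  refine (image_unitComp_subset f a).antisymm ?_
  rw [← compAt_unitComp]
  refine Set.image_mono fun w hw => ?_
  have h := image_unitComp_subset (ltr a ≫ f) a⁻¹ ⟨w, hw, rfl⟩
  rw [← compAt_unitComp] at h
  obtain ⟨w', hw', e⟩ := h
  rw [← Category.assoc, ltr_comp_ltr, mul_inv_cancel, ltr_one, Category.id_comp] at hw'
  exact (ltrHomeo a⁻¹).injective e ▸ hw'

/-- Translation carries the unit component onto the component of `a`, over any field. -/
theorem image_unitComp_eq (f : X ⟶ Z) (a : 𝟙_ (Over (Spec (CommRingCat.of k))) ⟶ X) :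
    ltrHomeo a '' unitComp f = compAt f a := by
  let K := AlgebraicClosure k
  let φ := Spec.map (CommRingCat.ofHom (algebraMap k K))
  let F := Over.pullback φ
  let X' := F.obj X
  let Z' := F.obj Z
  letI : GrpObj X' := Functor.grpObjObj
  haveI : IsProper X'.hom := inferInstanceAs (IsProper (pullback.snd X.hom φ))
  haveI : GeometricallyIntegral X'.hom := inferInstanceAs (GeometricallyIntegral (pullback.snd X.hom φ))
  haveI : IsSeparated Z'.hom := inferInstanceAs (IsSeparated (pullback.snd Z.hom φ))
  haveI : IsIntegralHom φ := by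
    rw [IsIntegralHom.SpecMap_iff]
    exact algebraMap_isIntegral_iff.2 inferInstance
  haveI : Surjective φ := ⟨Function.surjective_to_subsingleton
    (α := Spec (CommRingCat.of K)) (β := Spec (CommRingCat.of k)) _⟩
  let π : X'.left ⟶ X.left := pullback.fst X.hom φ
  let πZ : Z'.left ⟶ Z.left := pullback.fst Z.hom φ
  haveI : IsIntegralHom π := MorphismProperty.pullback_fst _ _ inferInstance
  haveI : Surjective π := MorphismProperty.pullback_fst _ _ inferInstance
  let pb : ∀ (_ : 𝟙_ (Over (Spec (CommRingCat.of k))) ⟶ X), 𝟙_ (Over (Spec (CommRingCat.of K))) ⟶ X' := fun p =>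
    Functor.LaxMonoidal.ε F ≫ F.map p
  have hεw : (Functor.LaxMonoidal.ε F).left ≫ pullback.fst (𝟙_ (Over (Spec (CommRingCat.of k)))).hom φ = φ := by
    have h := Over.w (Functor.LaxMonoidal.ε F)
    have h2 : pullback.fst (𝟙_ (Over (Spec (CommRingCat.of k)))).hom φ = pullback.snd (𝟙_ (Over (Spec (CommRingCat.of k)))).hom φ ≫ φ :=
      (Category.comp_id _).symm.trans pullback.condition
    rw [h2, ← Category.assoc]
    exact (congrArg (· ≫ φ) h).trans (Category.id_comp φ)
  have hpb : ∀ p, π ((pb p).left (pt₀ K)) = p.left (pt₀ k) := fun p => by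
    rw [← Scheme.Hom.comp_apply]
    have h1 : (pb p).left ≫ π = φ ≫ p.left := by
      simp only [pb, π, F, Over.comp_left, Over.pullback_map_left, Category.assoc, pullback.lift_fst]
      rw [← Category.assoc, hεw]
    rw [h1, Scheme.Hom.comp_apply]
    exact congrArg _ (Subsingleton.elim (α := Spec (CommRingCat.of k)) _ _)
  have hf : ∀ (g : X ⟶ Z) (y : X'.left), πZ ((F.map g).left y) = g.left (π y) := fun g y => by
    rw [← Scheme.Hom.comp_apply, ← Scheme.Hom.comp_apply]
    congr 1
    simp only [πZ, π, F, Over.pullback_map_left, pullback.lift_fst]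
  have hη : π ((η[X']).left (pt₀ K)) = (η[X]).left (pt₀ k) := hpb η[X]
  -- the point over a rational point is unique
  have hpre : ∀ (p : 𝟙_ (Over (Spec (CommRingCat.of k))) ⟶ X) (y : X'.left), π y = p.left (pt₀ k) →
      y = (pb p).left (pt₀ K) := fun p => by
    haveI hsub : Subsingleton ↥(pullback π p.left) := by
      have hP : IsPullback (pullback.fst π p.left ≫ pullback.snd X.hom φ) (pullback.snd π p.left) φ (p.left ≫ X.hom) :=
        IsPullback.paste_horiz (IsPullback.of_hasPullback π p.left)
          (IsPullback.of_hasPullback X.hom φ).flip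
      haveI : IsIso (p.left ≫ X.hom) := by rw [Over.w]; exact inferInstanceAs (IsIso (𝟙 _))
      haveI : IsIso (pullback.fst π p.left ≫ pullback.snd X.hom φ) := hP.isIso_fst_of_isIso
      exact (pullback.fst π p.left ≫ pullback.snd X.hom φ).homeomorph.injective.subsingleton
    intro y hy
    have hmem : ∀ r, π r = p.left (pt₀ k) → r ∈ Set.range (pullback.fst π p.left) := fun r hr => by
      rw [Scheme.Pullback.range_fst]; exact ⟨_, hr.symm⟩
    obtain ⟨z, hz⟩ := hmem y hy
    obtain ⟨z', hz'⟩ := hmem _ (hpb p)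
    rw [← hz, ← hz', Subsingleton.elim z z']
  -- preimage of a component through a rational point is connected
  have key : ∀ (g : X ⟶ Z) (p : 𝟙_ (Over (Spec (CommRingCat.of k))) ⟶ X),
      π '' compAt (F.map g) (pb p) = compAt g p := fun g p => by
    apply subset_antisymm
    · refine IsPreconnected.subset_connectedComponentIn
        (isPreconnected_connectedComponentIn.image _ π.continuous.continuousOn)
        ⟨_, mem_connectedComponentIn (Set.mem_singleton _), hpb p⟩ ?_
      rintro _ ⟨y, hy, rfl⟩
      have := Set.mem_singleton_iff.1 (connectedComponentIn_subset ((F.map g).left ⁻¹' {(F.map g).left ((pb p).left (pt₀ K))}) _ hy)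
      rw [Set.mem_preimage, Set.mem_singleton_iff, ← hf, this, hf, hpb]
    · have hzc : IsClosed (g.left ⁻¹' {g.left (p.left (pt₀ k))}) := by
        have h := isClosed_image_point (p ≫ g)
        rw [Over.comp_left, Scheme.Hom.comp_apply] at h
        exact h.preimage g.left.continuous
      have hfib : ∀ y, π y ∈ g.left ⁻¹' {g.left (p.left (pt₀ k))} →
          y ∈ (F.map g).left ⁻¹' {(F.map g).left ((pb p).left (pt₀ K))} := fun y hy => by
        haveI : Subsingleton ↥(pullback πZ (p ≫ g).left) := by
          have hP : IsPullback (pullback.fst πZ (p ≫ g).left ≫ pullback.snd Z.hom φ) (pullback.snd πZ (p ≫ g).left)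
              φ ((p ≫ g).left ≫ Z.hom) :=
            IsPullback.paste_horiz (IsPullback.of_hasPullback πZ (p ≫ g).left)
              (IsPullback.of_hasPullback Z.hom φ).flip
          haveI : IsIso ((p ≫ g).left ≫ Z.hom) := by rw [Over.w]; exact inferInstanceAs (IsIso (𝟙 _))
          haveI : IsIso (pullback.fst πZ (p ≫ g).left ≫ pullback.snd Z.hom φ) := hP.isIso_fst_of_isIso
          exact (pullback.fst πZ (p ≫ g).left ≫ pullback.snd Z.hom φ).homeomorph.injective.subsingleton
        have hmem : ∀ r, πZ r = g.left (p.left (pt₀ k)) → r ∈ Set.range (pullback.fst πZ (p ≫ g).left) :=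
          fun r hr => by
            rw [Scheme.Pullback.range_fst]
            exact ⟨pt₀ k, by rw [Over.comp_left, Scheme.Hom.comp_apply, hr]⟩
        obtain ⟨z, hz⟩ := hmem _ ((hf g y).trans hy)
        obtain ⟨z', hz'⟩ := hmem _ ((hf g _).trans (congrArg g.left (hpb p)))
        rw [Set.mem_preimage, Set.mem_singleton_iff, ← hz, ← hz', Subsingleton.elim z z']
      intro x hx
      obtain ⟨y, rfl⟩ := π.surjective x
      refine ⟨y, ?_, rfl⟩
      set C := compAt g p with hCdef
      have hCconn : _root_.IsPreconnected (π ⁻¹' C) := by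
        have hCc : IsClosed C := by
          refine isClosed_of_closure_subset ?_
          exact isPreconnected_connectedComponentIn.closure.subset_connectedComponentIn
            (subset_closure (mem_connectedComponentIn (Set.mem_singleton _)))
            (closure_minimal (connectedComponentIn_subset _ _) hzc)
        haveI : UniversallyOpen π := MorphismProperty.pullback_fst _ _ inferInstance
        rw [isPreconnected_closed_iff]
        intro S T hS hT hcov hSne hTne
        by_contra hne
        rw [Set.not_nonempty_iff_eq_empty] at hne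
        have hmemO : ∀ P Q : Set X'.left, IsClosed Q → π ⁻¹' C ⊆ P ∪ Q → π ⁻¹' C ∩ (P ∩ Q) = ∅ →
            (π ⁻¹' C ∩ P).Nonempty → IsClosed P → (pb p).left (pt₀ K) ∈ P := by
          intro P Q hQ hcov' hne' hPne hP
          have h1 : IsClosed (π '' (π ⁻¹' C ∩ P)) := π.isClosedMap _ ((hCc.preimage π.continuous).inter hP)
          have h2 : C ∩ π '' Qᶜ = π '' (π ⁻¹' C ∩ P) := by
            ext z
            constructor
            · rintro ⟨hzC, w, hw, rfl⟩
              exact ⟨w, ⟨hzC, (hcov' hzC).resolve_right hw⟩, rfl⟩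
            · rintro ⟨w, ⟨hwC, hwP⟩, rfl⟩
              exact ⟨hwC, w, fun hwQ => Set.eq_empty_iff_forall_notMem.1 hne' w ⟨hwC, hwP, hwQ⟩, rfl⟩
          have hCpre : _root_.IsPreconnected C := isPreconnected_connectedComponentIn
          by_contra hpP
          have hpnot : p.left (pt₀ k) ∉ π '' (π ⁻¹' C ∩ P) := fun ⟨w, hw, e⟩ => hpP (hpre p w e ▸ hw.2)
          obtain ⟨z, hz, hzU, hzV⟩ := hCpre (π '' Qᶜ) (π '' (π ⁻¹' C ∩ P))ᶜ (π.isOpenMap _ hQ.isOpen_compl)
            h1.isOpen_compl (fun z hz => by
              by_cases hzI : z ∈ π '' (π ⁻¹' C ∩ P)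
              · exact Or.inl (h2.ge hzI).2
              · exact Or.inr hzI)
            (by obtain ⟨w, hw⟩ := hPne; exact ⟨π w, hw.1, (h2.ge ⟨w, hw, rfl⟩).2⟩)
            ⟨_, mem_connectedComponentIn (Set.mem_singleton _), hpnot⟩
          exact hzV (h2.le ⟨hz, hzU⟩)
        have hS' := hmemO S T hT hcov hne hSne hS
        have hT' := hmemO T S hS (hcov.trans (Set.union_comm S T).le) (by rw [Set.inter_comm T S]; exact hne) hTne hT
        refine Set.eq_empty_iff_forall_notMem.1 hne _ ⟨?_, hS', hT'⟩
        rw [Set.mem_preimage, hpb, hCdef]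
        exact mem_connectedComponentIn (Set.mem_singleton _)
      refine hCconn.subset_connectedComponentIn ?_ (fun w hw => hfib w (connectedComponentIn_subset _ _ hw)) hx
      rw [Set.mem_preimage, hpb]
      exact mem_connectedComponentIn (Set.mem_singleton _)
  have hmain := image_unitComp_eq_of_isAlgClosed (F.map f) (pb a)
  have h1 : π '' unitComp (F.map f) = unitComp f := key f η[X]
  have h2 : ∀ y, π (ltrHomeo (pb a) y) = ltrHomeo a (π y) := fun y => by
    rw [ltrHomeo_apply, ltrHomeo_apply, ← Scheme.Hom.comp_apply, ← Scheme.Hom.comp_apply]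
    congr 1
    have e : ltr (pb a) = F.map (ltr a) := by
      rw [ltr, ltr, Functor.map_mul, F.map_id]
      congr 1
      rw [F.map_comp, ← Category.assoc]
      congr 1
      rw [← cancel_mono (Functor.Monoidal.εIso F).inv]
      exact toUnit_unique _ _
    rw [e]
    simp only [π, F, Over.pullback_map_left, pullback.lift_fst]
  rw [← h1, ← key f a, ← hmain, Set.image_image, Set.image_image]
  exact Set.image_congr fun y _ => (h2 y).symm

end Groth.Agent.AbRigid
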