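import Groth.Agent.Lib.AbRigid.KernelPair
import Groth.Agent.Lib.AbRigid.Hom
import Groth.Agent.Lib.AbRigid.SmoothGI
import Mathlib.AlgebraicGeometry.AlgClosed.Basic
import Mathlib.AlgebraicGeometry.Morphisms.Etale
import Mathlib.AlgebraicGeometry.Geometrically.Reduced
import Mathlib.AlgebraicGeometry.Sites.Fpqc

/-!
# Factorisation of homomorphisms through quotients
-/

open CategoryTheory Limits AlgebraicGeometry MonoidalCategory CartesianMonoidalCategory MonObj

set_option linter.style.haveILetI false
set_option backward.isDefEq.respectTransparency false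

namespace Groth.Agent.AbRigid

universe u

variable {K : Type u} [Field K]

/-- A homomorphism killing the kernel of a flat surjective quasi-compact homomorphism factors. -/
theorem existsUnique_factor {X Y Z N : Over (Spec (CommRingCat.of K))} [GrpObj X] [GrpObj Y] [GrpObj Z]
    (f : X ⟶ Y) [IsMonHom f] [Flat f.left] [Surjective f.left] [QuasiCompact f.left]
    (i : N ⟶ X) (hN : AlgGrp.IsKernel i f) (g : X ⟶ Z) [IsMonHom g] (hg : i ≫ g = 1) :
    ∃! r : Y ⟶ Z, f ≫ r = g := by
  have hp := (isPullback_kernelPair f i hN).map (Over.forget _)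
  have he : (fst X N ≫ g).left = ((fst X N * (snd X N ≫ i)) ≫ g).left := by
    rw [MonObj.mul_comp, Category.assoc, hg, MonObj.comp_one, _root_.mul_one]
  have hcoeq : ∀ {T : Scheme.{u}} (a b : T ⟶ X.left), a ≫ f.left = b ≫ f.left → a ≫ g.left = b ≫ g.left := by
    intro T a b hab
    have h1 := hp.lift_fst a b hab
    have h2 := hp.lift_snd a b hab
    dsimp at h1 h2
    refine ((congrArg (· ≫ g.left) h1).symm.trans ?_).trans (congrArg (· ≫ g.left) h2)
    simp only [Category.assoc]
    exact congrArg _ (by simpa using he)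
  let r := EffectiveEpi.desc f.left g.left (fun a b h => hcoeq a b h)
  have hr : f.left ≫ r = g.left := EffectiveEpi.fac f.left g.left _
  have hw : r ≫ Z.hom = Y.hom := by
    rw [← cancel_epi f.left, reassoc_of% hr, Over.w, Over.w]
  refine ⟨Over.homMk r hw, Over.OverMorphism.ext hr, fun r' hr' => ?_⟩
  ext1
  rw [← cancel_epi f.left]
  exact ((congrArg (fun a => a.left) hr').trans hr.symm : _)

/-- A map from a reduced scheme of finite type over an algebraically closed field into a group is
trivial if it kills all rational points. -/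
theorem eq_one_of_points [IsAlgClosed K] {N X : Over (Spec (CommRingCat.of K))} [GrpObj X]
    [IsReduced N.left] [LocallyOfFiniteType N.hom] [IsSeparated X.hom] [LocallyOfFiniteType X.hom]
    (h : N ⟶ X) (H : ∀ P : 𝟙_ (Over (Spec (CommRingCat.of K))) ⟶ N, P ≫ h = 1) : h = 1 := by
  ext1
  haveI : LocallyOfFiniteType (h.left ≫ X.hom) := by rw [Over.w]; infer_instance
  refine ext_of_apply_eq X.hom Set.univ isOpen_univ.isLocallyClosed dense_univ (fun x _ hx => ?_)
    ((Over.w h).trans (Over.w (1 : N ⟶ X)).symm)
  let P : 𝟙_ (Over (Spec (CommRingCat.of K))) ⟶ N := Over.homMk (pointOfClosedPoint N.hom x hx) (by simp)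
  have hP : P ≫ h = P ≫ 1 := (H P).trans (MonObj.comp_one P).symm
  have hx' : P.left (IsLocalRing.closedPoint K) = x := pointOfClosedPoint_apply _ _ _ _
  have := congrArg (fun a => a.left (IsLocalRing.closedPoint K)) hP
  simp only [Over.comp_left, Scheme.Hom.comp_apply, hx'] at this
  exact this

/-- A homomorphism killing the rational points of the kernel of an étale finite surjection factors. -/
theorem existsUnique_factor_of_points [IsAlgClosed K] {X Y Z : Over (Spec (CommRingCat.of K))}
    [GrpObj X] [GrpObj Y] [GrpObj Z] [IsSeparated Z.hom] [LocallyOfFiniteType Z.hom]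
    (f : X ⟶ Y) [IsMonHom f] [Etale f.left] [IsFinite f.left] [Surjective f.left]
    (g : X ⟶ Z) [IsMonHom g]
    (hker : ∀ P : 𝟙_ (Over (Spec (CommRingCat.of K))) ⟶ X, P ≫ f = η[Y] → P ≫ g = η[Z]) :
    ∃! r : Y ⟶ Z, f ≫ r = g := by
  let N : Over (Spec (CommRingCat.of K)) := Over.mk (pullback.snd f.left η[Y].left)
  let i : N ⟶ X := Over.homMk (pullback.fst f.left η[Y].left) (by
    show pullback.fst f.left η[Y].left ≫ X.hom = pullback.snd _ _
    rw [← Over.w f, pullback.condition_assoc, Over.w η[Y]]
    exact Category.comp_id _)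
  have hN : AlgGrp.IsKernel i f := by
    refine IsPullback.of_map (Over.forget _) ?_ ?_
    · ext1
      simp [i, N, pullback.condition]
    · simpa [N, i] using IsPullback.of_hasPullback f.left η[Y].left
  haveI : Etale N.hom := MorphismProperty.pullback_snd _ _ ‹Etale f.left›
  haveI : IsFinite N.hom := MorphismProperty.pullback_snd _ _ ‹IsFinite f.left›
  haveI : GeometricallyReduced N.hom := geometricallyReduced_of_smooth N.hom
  haveI : IsReduced N.left := isReduced_of_smooth_over_field N.hom
  refine existsUnique_factor f i hN g (eq_one_of_points _ fun P => ?_)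
  rw [← Category.assoc, ← one_eq_one (M := Z)]
  refine hker _ ?_
  rw [Category.assoc, hN.w, ← Category.assoc, toUnit_unique (P ≫ toUnit N) (𝟙 _), Category.id_comp]

end Groth.Agent.AbRigid
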