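import Groth.Agent.Lib.AbRigid.FibreTranslate
import Groth.Agent.Lib.FibDim14.Semicont
import Groth.Agent.Lib.FibDim14.BaseChange
import Groth.Agent.Lib.GeomIrr18.Comp

/-!
# Fibres of morphisms from abelian varieties are equidimensional
-/

universe u

open CategoryTheory Limits MonoidalCategory CartesianMonoidalCategory AlgebraicGeometry TopologicalSpace Topology

set_option linter.style.haveILetI false
set_option backward.isDefEq.respectTransparency false

open scoped MonObj GrpObj

namespace Groth.Agent.AbRigid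

/-- Connected components of closed subsets of a noetherian space are relatively open. -/
theorem exists_isOpen_inter_eq_connectedComponentIn {α : Type*} [TopologicalSpace α] [NoetherianSpace α]
    (F : Set α) (x : α) (hx : x ∈ F) :
    ∃ O : Set α, IsOpen O ∧ F ∩ O = connectedComponentIn F x := by
  haveI : NoetherianSpace F := NoetherianSpace.set F
  let C := connectedComponent (⟨x, hx⟩ : F)
  have hfin := NoetherianSpace.finite_irreducibleComponents (α := F)
  have hCo : IsOpen C := by
    have e : Cᶜ = ⋃ T ∈ {T ∈ irreducibleComponents F | ¬ T ⊆ C}, T := by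
      ext y
      simp only [Set.mem_compl_iff, Set.mem_iUnion, Set.mem_setOf_eq]
      constructor
      · intro hy
        refine ⟨irreducibleComponent y, ⟨irreducibleComponent_mem_irreducibleComponents y, fun h =>
          hy (h mem_irreducibleComponent)⟩, mem_irreducibleComponent⟩
      · rintro ⟨T, ⟨hT, hTC⟩, hyT⟩ hyC
        exact hTC (by
          show T ⊆ connectedComponent (⟨x, hx⟩ : F)
          rw [connectedComponent_eq hyC]
          exact hT.1.isConnected.isPreconnected.subset_connectedComponent hyT)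
    rw [← isClosed_compl_iff, e]
    exact (hfin.subset fun T hT => hT.1).isClosed_biUnion fun T hT => isClosed_of_mem_irreducibleComponents T hT.1
  obtain ⟨O, hO, hOC⟩ := isOpen_induced_iff.1 hCo
  refine ⟨O, hO, ?_⟩
  rw [connectedComponentIn_eq_image hx, show connectedComponent (⟨x, hx⟩ : F) = C from rfl, ← hOC,
    Subtype.image_preimage_coe]

/-- Local dimension of a connected component agrees with that of the ambient closed set. -/
theorem localDim_connectedComponentIn {α : Type*} [TopologicalSpace α] [NoetherianSpace α]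
    (F : Set α) (x : α) (hx : x ∈ F) :
    FlatMor.localDim (connectedComponentIn F x) ⟨x, mem_connectedComponentIn hx⟩ = FlatMor.localDim F ⟨x, hx⟩ := by
  obtain ⟨O, hO, hOC⟩ := exists_isOpen_inter_eq_connectedComponentIn F x hx
  let e : connectedComponentIn F x → F := fun y => ⟨y.1, connectedComponentIn_subset F x y.2⟩
  have he : IsOpenEmbedding e := by
    refine ⟨⟨⟨?_⟩, fun a b h => Subtype.ext (congrArg Subtype.val h :)⟩, ?_⟩
    · rw [show (instTopologicalSpaceSubtype : TopologicalSpace (connectedComponentIn F x)) =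
        TopologicalSpace.induced Subtype.val ‹_› from rfl, show (instTopologicalSpaceSubtype : TopologicalSpace F) =
        TopologicalSpace.induced Subtype.val ‹_› from rfl, induced_compose]
      rfl
    · rw [show Set.range e = Subtype.val ⁻¹' O from Set.ext fun y => ?_]
      · exact hO.preimage continuous_subtype_val
      · exact ⟨fun ⟨z, hz⟩ => hz ▸ (hOC.ge z.2).2, fun hy => ⟨⟨y.1, hOC.le ⟨y.2, hy⟩⟩, rfl⟩⟩
  exact FibDim14.localDim_of_isOpenEmbedding he _

variable {k : Type u} [Field k] {X Z : Over (Spec (CommRingCat.of k))} [GrpObj X] [IsProper X.hom]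
  [GeometricallyIntegral X.hom] [IsSeparated Z.hom]

/-- The fibre dimension is the same at all rational points. -/
theorem fibreDimAt_point_eq [IsAlgClosed k] (f : X ⟶ Z) (a : 𝟙_ (Over (Spec (CommRingCat.of k))) ⟶ X) :
    FlatMor.fibreDimAt f.left (a.left (pt₀ k)) = FlatMor.fibreDimAt f.left ((η[X]).left (pt₀ k)) := by
  haveI : IsLocallyNoetherian X.left := LocallyOfFiniteType.isLocallyNoetherian X.hom
  haveI : CompactSpace X.left := QuasiCompact.compactSpace_of_compactSpace X.hom
  haveI : AlgebraicGeometry.IsNoetherian X.left := {}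
  haveI : NoetherianSpace X.left := inferInstance
  rw [FibDim14.fibreDimAt_eq_localDim_preimage, FibDim14.fibreDimAt_eq_localDim_preimage,
    ← localDim_connectedComponentIn (f.left ⁻¹' {f.left (a.left (pt₀ k))}) (a.left (pt₀ k)) rfl,
    ← localDim_connectedComponentIn (f.left ⁻¹' {f.left ((η[X]).left (pt₀ k))}) ((η[X]).left (pt₀ k)) rfl]
  have h := image_unitComp_eq_of_isAlgClosed f a
  let e : unitComp f → X.left := fun y => ltrHomeo a y.1
  have he : IsEmbedding e := (ltrHomeo a).isEmbedding.comp IsEmbedding.subtypeVal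
  have hr : Set.range e = compAt f a := by
    rw [← h]
    exact Set.ext fun y => ⟨fun ⟨z, hz⟩ => ⟨z.1, z.2, hz⟩, fun ⟨z, hz, hzy⟩ => ⟨⟨z, hz⟩, hzy⟩⟩
  exact (FibDim14.localDim_of_range (T := compAt f a) he hr
    ⟨(η[X]).left (pt₀ k), mem_connectedComponentIn (Set.mem_singleton _)⟩ (ltrHomeo_unit a)
    (mem_connectedComponentIn (Set.mem_singleton _))).symm

/-- Over an algebraically closed field the fibre dimension is constant. -/
theorem fibreDimAt_eq_unit [IsAlgClosed k] (f : X ⟶ Z) (x : X.left) :
    FlatMor.fibreDimAt f.left x = FlatMor.fibreDimAt f.left ((η[X]).left (pt₀ k)) := by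
  haveI : LocallyOfFiniteType (f.left ≫ Z.hom) := by rw [Over.w]; infer_instance
  haveI : LocallyOfFiniteType f.left := locallyOfFiniteType_of_comp f.left Z.hom
  haveI : JacobsonSpace X.left := LocallyOfFiniteType.jacobsonSpace X.hom
  obtain ⟨x₀, -, -, hd, -⟩ := FibDim14.exists_fibreDimAt_eq f.left ((η[X]).left (pt₀ k))
  obtain ⟨x₁, -, -, hdx, -⟩ := FibDim14.exists_fibreDimAt_eq f.left x
  have hcl : ∀ y ∈ closedPoints X.left,
      FlatMor.fibreDimAt f.left y = FlatMor.fibreDimAt f.left ((η[X]).left (pt₀ k)) := fun y hy => by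
    let p : 𝟙_ (Over (Spec (CommRingCat.of k))) ⟶ X := Over.homMk (pointOfClosedPoint X.hom y hy) (by simp)
    rw [← fibreDimAt_point_eq f p]
    simp [p, pt₀]
  refine le_antisymm ?_ ?_
  · rw [hd]
    by_contra hlt
    obtain ⟨y, hy, hyc⟩ := nonempty_inter_closedPoints
      (Z := {z | FlatMor.fibreDimAt f.left z ≤ (FibDim14.rd f.left x₀ : WithBot ℕ∞)}ᶜ) ⟨x, hlt⟩
      (FibDim14.isOpen_fibreDimAt_le f.left _).isClosed_compl.isLocallyClosed
    exact hy ((hcl y hyc).trans hd).le
  · rw [hdx]
    obtain ⟨y, hy, hyc⟩ := nonempty_inter_closedPoints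
      (Z := {z | FlatMor.fibreDimAt f.left z ≤ (FibDim14.rd f.left x₁ : WithBot ℕ∞)}) ⟨x, hdx.le⟩
      (FibDim14.isOpen_fibreDimAt_le f.left _).isLocallyClosed
    exact (hcl y hyc).ge.trans hy

/-- The fibre dimension is constant. -/
theorem exists_fibreDimAt_eq_const (f : X ⟶ Z) :
    ∃ c : WithBot ℕ∞, ∀ x : X.left, FlatMor.fibreDimAt f.left x = c := by
  haveI : LocallyOfFiniteType (f.left ≫ Z.hom) := by rw [Over.w]; infer_instance
  haveI : LocallyOfFiniteType f.left := locallyOfFiniteType_of_comp f.left Z.hom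
  let K := AlgebraicClosure k
  let φ := Spec.map (CommRingCat.ofHom (algebraMap k K))
  let F := Over.pullback φ
  let X' := F.obj X
  let Z' := F.obj Z
  letI : GrpObj X' := Functor.grpObjObj
  haveI : IsProper X'.hom := inferInstanceAs (IsProper (pullback.snd X.hom φ))
  haveI : GeometricallyIntegral X'.hom := inferInstanceAs (GeometricallyIntegral (pullback.snd X.hom φ))
  haveI : IsSeparated Z'.hom := inferInstanceAs (IsSeparated (pullback.snd Z.hom φ))
  let π : X'.left ⟶ X.left := pullback.fst X.hom φ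
  let πZ : Z'.left ⟶ Z.left := pullback.fst Z.hom φ
  have hsq : IsPullback π (F.map f).left f.left πZ := by
    refine IsPullback.of_bot (h₂₁ := πZ) (v₂₁ := pullback.snd Z.hom φ) (v₂₂ := Z.hom) (h₃₁ := φ) ?_ ?_
      (IsPullback.of_hasPullback Z.hom φ)
    · rw [show (F.map f).left ≫ pullback.snd Z.hom φ = pullback.snd X.hom φ from Over.w (F.map f), Over.w f]
      exact IsPullback.of_hasPullback X.hom φ
    · simp only [π, πZ, F, Over.pullback_map_left, pullback.lift_fst]
  refine ⟨FlatMor.fibreDimAt (F.map f).left ((η[X']).left (pt₀ K)), fun x => ?_⟩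
  obtain ⟨x', rfl⟩ := π.surjective x
  haveI : LocallyOfFiniteType (F.map f).left := MorphismProperty.of_isPullback hsq inferInstance
  rw [← FibDim14.fibreDimAt_baseChange hsq x', fibreDimAt_eq_unit]

/-- All components of all fibres have one dimension. -/
theorem exists_dim_components (f : X ⟶ Z) : ∃ d : ℕ, ∀ (y : Z.left)
    (C : Set ↥(f.left.fiber y)), C ∈ irreducibleComponents ↥(f.left.fiber y) → topologicalKrullDim ↥C = d := by
  haveI : LocallyOfFiniteType (f.left ≫ Z.hom) := by rw [Over.w]; infer_instance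
  haveI : LocallyOfFiniteType f.left := locallyOfFiniteType_of_comp f.left Z.hom
  obtain ⟨c, hc⟩ := exists_fibreDimAt_eq_const f
  obtain ⟨x₀, -, -, hd, -⟩ := FibDim14.exists_fibreDimAt_eq f.left ((η[X]).left (pt₀ k))
  refine ⟨FibDim14.rd f.left x₀, fun y C hC => ?_⟩
  obtain ⟨ζ, hζ, rfl⟩ := GeomIrr.exists_generic_component hC
  let x := f.left.fiberι y ζ
  have hfx : f.left x = y := by
    have hm : f.left.fiberι y ζ ∈ Set.range (f.left.fiberι y) := ⟨ζ, rfl⟩
    rwa [f.left.range_fiberι] at hm
  obtain ⟨x', h1, h2, h3, -⟩ := FibDim14.exists_fibreDimAt_eq f.left x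
  obtain ⟨z, hz⟩ : x' ∈ Set.range (f.left.fiberι y) := by
    rw [f.left.range_fiberι]; exact h2.trans hfx
  obtain rfl : z = ζ := hζ z ((f.left.fiberι y).isEmbedding.isInducing.specializes_iff.1 (hz ▸ h1))
  subst hz
  rw [hc, ← hc ((η[X]).left (pt₀ k)), hd, FibDim14.rd_fiberι] at h3
  rw [VarDim.dim_closure_singleton (FibDim14.toPt f.left y) z, ← h3]

end Groth.Agent.AbRigid
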