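import Groth.Agent.Lib.AbRigid.Basic
import Mathlib.AlgebraicGeometry.Sites.Fpqc

/-!
# Rigidity at a geometric point
-/

open CategoryTheory Limits AlgebraicGeometry MonoidalCategory CartesianMonoidalCategory MonObj

set_option linter.style.haveILetI false

namespace Groth.Agent.AbRigid

universe u

theorem over_pullback_hom_ext {S T : Scheme.{u}} {φ : T ⟶ S} {A : Over T} {Z : Over S}
    {a b : A ⟶ (Over.pullback φ).obj Z}
    (h : a.left ≫ pullback.fst Z.hom φ = b.left ≫ pullback.fst Z.hom φ) : a = b := by
  ext1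
  apply pullback.hom_ext h
  exact (Over.w a).trans (Over.w b).symm

theorem descend_of_flat {S : Scheme.{u}} {P Y Z : Over S} (π : P ⟶ Y) [Flat π.left] [Surjective π.left]
    [QuasiCompact π.left] (f : P ⟶ Z)
    (h : ∀ (W : Over S) (a b : W ⟶ P), a ≫ π = b ≫ π → a ≫ f = b ≫ f) :
    ∃! g : Y ⟶ Z, f = π ≫ g := by
  have key : ∀ {W : Scheme.{u}} (a b : W ⟶ P.left), a ≫ π.left = b ≫ π.left → a ≫ f.left = b ≫ f.left := by
    intro W a b hab
    let W' : Over S := Over.mk (a ≫ P.hom)
    let a' : W' ⟶ P := Over.homMk a rfl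
    let b' : W' ⟶ P := Over.homMk b (by
      show b ≫ P.hom = a ≫ P.hom
      rw [← Over.w π, ← Category.assoc, ← hab, Category.assoc])
    exact congrArg CommaMorphism.left (h W' a' b' (by ext1; exact hab))
  refine ⟨Over.homMk (EffectiveEpi.desc π.left f.left key) ?_, ?_, ?_⟩
  · rw [← cancel_epi π.left, ← Category.assoc, EffectiveEpi.fac, Over.w, Over.w]
  · ext1
    exact (EffectiveEpi.fac π.left f.left key).symm
  · intro g hg
    ext1
    exact EffectiveEpi.uniq π.left f.left key g.left (congrArg CommaMorphism.left hg).symm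

variable {k : Type u} [Field k]

theorem surjective_snd_left (X Y : Over (Spec (CommRingCat.of k))) [Nonempty X.left] :
    Surjective (snd X Y).left := by
  haveI : Surjective X.hom :=
    ⟨fun s => ⟨Classical.arbitrary _, Subsingleton.elim (α := Spec (CommRingCat.of k)) _ _⟩⟩
  dsimp
  infer_instance

set_option backward.isDefEq.respectTransparency false in
set_option backward.defeqAttrib.useBackward true in
/-- Rigidity at a geometric point. -/
theorem rigidity_geometric (X Y Z : Over (Spec (CommRingCat.of k)))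
    [IsProper X.hom] [GeometricallyIntegral X.hom]
    [LocallyOfFiniteType Y.hom] [GeometricallyIntegral Y.hom]
    [IsSeparated Z.hom] (f : X ⊗ Y ⟶ Z)
    (K : Type u) [Field K] [Algebra k K] [IsAlgClosed K]
    (y₀ : (Over.mk (Spec.map (CommRingCat.ofHom (algebraMap k K))) : Over (Spec (CommRingCat.of k))) ⟶ Y)
    (z₀ : (Over.mk (Spec.map (CommRingCat.ofHom (algebraMap k K))) : Over (Spec (CommRingCat.of k))) ⟶ Z)
    (h : (X ◁ y₀) ≫ f = snd X _ ≫ z₀) :
    ∃! g : Y ⟶ Z, f = snd X Y ≫ g := by
  let φ := Spec.map (CommRingCat.ofHom <| algebraMap k K)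
  let F := Over.pullback φ
  haveI : Nonempty (Spec (CommRingCat.of k)) := inferInstance
  haveI : IsProper (F.obj X).hom := by dsimp [F]; infer_instance
  haveI : LocallyOfFiniteType (F.obj Y).hom := by dsimp [F]; infer_instance
  haveI : IsSeparated (F.obj Z).hom := by dsimp [F]; infer_instance
  haveI : IsIntegral (F.obj X).left := by dsimp [F]; infer_instance
  haveI : IsIntegral (F.obj X ⊗ F.obj Y).left := by dsimp [F]; infer_instance
  haveI : LocallyOfFiniteType (F.obj X).hom := inferInstance
  -- a rational point of `X_K`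
  obtain ⟨x, hx⟩ : ∃ x : (F.obj X).left, IsClosed ({x} : Set (F.obj X).left) := by
    haveI : JacobsonSpace (F.obj X).left := LocallyOfFiniteType.jacobsonSpace (Y := Spec _) (F.obj X).hom
    obtain ⟨x, -, hx⟩ := nonempty_inter_closedPoints (X := (F.obj X).left)
      Set.univ_nonempty isClosed_univ.isLocallyClosed
    exact ⟨x, hx⟩
  let x₀ : 𝟙_ (Over (Spec (CommRingCat.of K))) ⟶ F.obj X :=
    Over.homMk (pointOfClosedPoint (F.obj X).hom x hx) (by simp)
  let y₁ : 𝟙_ (Over (Spec (CommRingCat.of K))) ⟶ F.obj Y :=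
    Over.homMk (pullback.lift y₀.left (𝟙 _) ((Over.w y₀).trans (Category.id_comp _).symm)) (pullback.lift_snd _ _ _)
  let z₁ : 𝟙_ (Over (Spec (CommRingCat.of K))) ⟶ F.obj Z :=
    Over.homMk (pullback.lift z₀.left (𝟙 _) ((Over.w z₀).trans (Category.id_comp _).symm)) (pullback.lift_snd _ _ _)
  have key := rigidity_of_isAlgClosed (F.obj X) (F.obj Y) (F.obj Z)
    (Functor.LaxMonoidal.μ F X Y ≫ F.map f) x₀ y₁ z₁ (by
      apply over_pullback_hom_ext
      have e : ((slice y₁ : F.obj X ⟶ _) ≫ Functor.LaxMonoidal.μ F X Y).left ≫ pullback.fst (X ⊗ Y).hom φ =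
          (X ◁ y₀).left := by
        apply pullback.hom_ext
        · refine Eq.trans ?_ (congrArg CommaMorphism.left (whiskerLeft_fst X y₀)).symm
          have e1 : (slice y₁ : F.obj X ⟶ _) ≫ Functor.LaxMonoidal.μ F X Y ≫ F.map (fst X Y) = 𝟙 _ := by
            rw [Functor.Monoidal.μ_fst, slice, lift_fst]
          have := congrArg (fun a => a.left ≫ pullback.fst X.hom φ) e1
          simp only [F, Category.assoc, Over.comp_left, Over.pullback_map_left, pullback.lift_fst,
            Over.id_left] at this ⊢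
          exact this.trans (Category.id_comp _)
        · refine Eq.trans ?_ (congrArg CommaMorphism.left (whiskerLeft_snd X y₀)).symm
          have e1 : (slice y₁ : F.obj X ⟶ _) ≫ Functor.LaxMonoidal.μ F X Y ≫ F.map (snd X Y) = toUnit _ ≫ y₁ := by
            rw [Functor.Monoidal.μ_snd, slice, lift_snd]
          have := congrArg (fun a => a.left ≫ pullback.fst Y.hom φ) e1
          simp only [F, y₁, Category.assoc, Over.comp_left, Over.pullback_map_left, pullback.lift_fst,
            Over.homMk_left] at this ⊢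
          exact this
      have hl := congrArg CommaMorphism.left h
      calc ((slice y₁ : F.obj X ⟶ _) ≫ Functor.LaxMonoidal.μ F X Y ≫ F.map f).left ≫ pullback.fst Z.hom φ
          = (X ◁ y₀).left ≫ f.left := by
            rw [← e]; simp [F, Category.assoc]
        _ = (snd X _).left ≫ z₀.left := hl
        _ = _ := by simp [F, z₁]; rfl)
  haveI : Nonempty X.left := ⟨pullback.fst X.hom φ x⟩
  haveI : Surjective (snd X Y).left := surjective_snd_left X Y
  haveI : Flat (snd X Y).left := by dsimp; infer_instance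
  haveI : QuasiCompact (snd X Y).left := by dsimp; infer_instance
  refine descend_of_flat (snd X Y) f fun W a b hab => ?_
  apply F.map_injective
  set g := lift (toUnit (F.obj Y) ≫ x₀) (𝟙 (F.obj Y)) ≫ Functor.LaxMonoidal.μ F X Y ≫ F.map f with hg
  have hf : F.map f = F.map (snd X Y) ≫ g := by
    rw [← cancel_epi (Functor.Monoidal.μIso F X Y).hom, Functor.Monoidal.μIso_hom, key,
      Functor.Monoidal.μ_snd_assoc]
  rw [F.map_comp, F.map_comp, hf, ← Category.assoc (F.map a), ← Category.assoc (F.map b), ← F.map_comp, ← F.map_comp, hab]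

end Groth.Agent.AbRigid
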