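import Groth.Prelude.Def_Coh

/-!
# A one-dimensional space of sections of the structure sheaf means only constant functions
-/

universe u
open CategoryTheory AlgebraicGeometry Limits Opposite

namespace Groth.Agent.AbRigid

/-- If `H^0(X, O_X)` is one-dimensional, the global functions are the constants. -/
theorem bijective_appTop_of_finrank_hZero_eq_one (k : Type u) [Field k] (X : Scheme.{u})
    [X.Over (Spec (CommRingCat.of k))]
    (h0 : Module.finrank k (Coh.HH X (Coh.structureModule X) 0) = 1) :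
    Function.Bijective ((Scheme.ΓSpecIso (CommRingCat.of k)).inv ≫ (X ↘ Spec (CommRingCat.of k)).appTop).hom := by
  set g : k →+* Γ(X, ⊤) := ((Scheme.ΓSpecIso (CommRingCat.of k)).inv ≫ (X ↘ Spec (CommRingCat.of k)).appTop).hom
  let e : Coh.HH X (Coh.structureModule X) 0 ≃+ Γ(X, ⊤) :=
    Sheaf.H.equiv₀ (Coh.toAb (Coh.structureModule X)) (isTerminalTop (α := X.Opens))
  have he : ∀ (c : k) x, e (c • x) = g c * e x := by
    intro c x
    refine ((Sheaf.H.equiv₀_naturality (isTerminalTop (α := X.Opens))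
      (Coh.smulAb (Coh.structureModule X) (Coh.toGlobal (X ↘ Spec (CommRingCat.of k)) c)) x).symm).trans ?_
    refine (Coh.smulAb_app _ _ _ _).trans ?_
    show Coh.resTop X (op ⊤) _ * _ = _
    simp [g, Coh.resTop, Coh.toGlobal]
    rfl
  obtain ⟨y, hy, hspan⟩ := finrank_eq_one_iff'.1 h0
  have hs : ∀ r, ∃ c : k, g c * e y = r := fun r => by
    obtain ⟨c, hc⟩ := hspan (e.symm r)
    exact ⟨c, by rw [← he, hc, e.apply_symm_apply]⟩
  refine ⟨?_, fun r => ?_⟩
  · haveI : Nontrivial Γ(X, ⊤) := ⟨e y, 0, fun h => hy (e.injective (by simpa using h))⟩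
    exact g.injective
  · obtain ⟨c₀, h₀⟩ := hs 1
    obtain ⟨d, hd⟩ := hs (e y * e y)
    obtain ⟨c, hc⟩ := hs r
    have hy' : e y = g d := by
      calc e y = e y * (g c₀ * e y) := by rw [h₀, mul_one]
        _ = g c₀ * (e y * e y) := by ring
        _ = g d * (g c₀ * e y) := by rw [← hd]; ring
        _ = g d := by rw [h₀, mul_one]
    exact ⟨c * d, by rw [map_mul, ← hy', hc]⟩

end Groth.Agent.AbRigid
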